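import Mathlib
import Cfsg.Agent.Coprime.Action
import Cfsg.Agent.Coprime.ActionHom
import Cfsg.Agent.Coprime.Abelian
import Cfsg.Agent.Ward.Pairs
import Cfsg.Agent.Solvable.Frattini
import Cfsg.Agent.SolvCrit.NilpotentInvariant

/-!
# The basic lemma on fixed-point-free coprime actions on a p-group

`T` acts coprimely on the p-group `D` and is normalised fixed-point-freely by an automorphism `b`
of prime order: then the fixed points of `b` in `D` generate `D` under `T` as soon as `[D,T] = D`.
-/

set_option autoImplicit false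

namespace CfsgLib.FpfRankTwo73

open Subgroup CfsgLib.SolvCrit CfsgLib.Ward
open scoped commutatorElement

universe u v

section Module

variable {V T : Type*} [CommGroup V] [Finite V] [Group T] [Finite T]

/-- A Frobenius group of automorphisms whose complement has no fixed points has trivial kernel. -/
theorem trivial_of_fpf (τ : T →* MulAut V) (β : MulAut V) (σ : MulAut T) {n : ℕ}
    (hn : 0 < n) (hβ : β ^ n = 1)
    (hσ : ∀ i, 0 < i → i < n → ∀ t, (σ ^ i) t = t → t = 1)
    (hc : ∀ t v, β (τ t v) = τ (σ t) (β v))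
    (hcop : (Nat.card T).Coprime (Nat.card V)) (hfix : ∀ v, β v = v → v = 1) (t : T) (v : V) :
    τ t v = v := by
  classical
  cases nonempty_fintype T
  have hN : ∀ w, ∏ i ∈ Finset.range n, (β ^ i) w = 1 := by
    intro w
    apply hfix
    have h1 : ∀ i, β ((β ^ i) w) = (β ^ (i + 1)) w := fun i => by
      rw [pow_succ', MulAut.mul_apply]
    rw [map_prod]
    simp only [h1]
    have h2 := Finset.prod_range_succ' (fun i => (β ^ i) w) n
    have h3 := Finset.prod_range_succ (fun i => (β ^ i) w) n
    rw [hβ] at h3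
    simp only [pow_zero] at h2
    rw [h3] at h2
    exact (mul_right_cancel h2).symm
  have hpow : ∀ i t v, (β ^ i) (τ t v) = τ ((σ ^ i) t) ((β ^ i) v) := by
    intro i
    induction i with
    | zero => intro t v; simp
    | succ i ih =>
      intro t v
      simp only [pow_succ', MulAut.mul_apply, ih, hc]
  have hT : ∀ w s, τ s (∏ x : T, τ x w) = ∏ x : T, τ x w := by
    intro w s
    rw [map_prod]
    exact Fintype.prod_equiv (Equiv.mulLeft s) _ _ fun x => by
      rw [Equiv.coe_mulLeft, map_mul, MulAut.mul_apply]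
  have hsum : ∏ i ∈ Finset.range n, ∏ x : T, τ (x * (σ ^ i) x⁻¹) ((β ^ i) v) = 1 := by
    rw [Finset.prod_comm]
    refine Finset.prod_eq_one fun x _ => ?_
    have h1 : ∀ i, τ (x * (σ ^ i) x⁻¹) ((β ^ i) v) = τ x ((β ^ i) (τ x⁻¹ v)) := fun i => by
      rw [hpow, map_mul, MulAut.mul_apply]
    simp only [h1]
    rw [← map_prod, hN, map_one]
  obtain ⟨m, rfl⟩ := Nat.exists_eq_succ_of_ne_zero hn.ne'
  rw [Finset.prod_range_succ'] at hsum
  have h0 : ∏ x : T, τ (x * (σ ^ 0) x⁻¹) ((β ^ 0) v) = v ^ Nat.card T := by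
    simp
  have hrest : τ t (∏ i ∈ Finset.range m, ∏ x : T, τ (x * (σ ^ (i + 1)) x⁻¹) ((β ^ (i + 1)) v))
      = ∏ i ∈ Finset.range m, ∏ x : T, τ (x * (σ ^ (i + 1)) x⁻¹) ((β ^ (i + 1)) v) := by
    rw [map_prod]
    refine Finset.prod_congr rfl fun i hi => ?_
    rw [Finset.mem_range] at hi
    have hb : Function.Bijective fun x : T => x * (σ ^ (i + 1)) x⁻¹ := by
      refine Finite.injective_iff_bijective.1 fun x y hxy => ?_
      simp only [map_inv] at hxy
      have h2 := hσ (i + 1) (Nat.succ_pos i) (by omega) (y⁻¹ * x) (by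
        rw [map_mul, map_inv]
        calc ((σ ^ (i + 1)) y)⁻¹ * (σ ^ (i + 1)) x
            = y⁻¹ * (y * ((σ ^ (i + 1)) y)⁻¹) * (σ ^ (i + 1)) x := by group
          _ = y⁻¹ * (x * ((σ ^ (i + 1)) x)⁻¹) * (σ ^ (i + 1)) x := by rw [hxy]
          _ = y⁻¹ * x := by group)
      exact (inv_mul_eq_one.1 h2).symm
    have hre : ∏ x : T, τ (x * (σ ^ (i + 1)) x⁻¹) ((β ^ (i + 1)) v)
        = ∏ x : T, τ x ((β ^ (i + 1)) v) :=
      Fintype.prod_bijective _ hb _ _ fun x => rfl
    rw [hre, hT]
  rw [h0] at hsum
  have h1 : τ t (v ^ Nat.card T) = v ^ Nat.card T := by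
    rw [eq_inv_of_mul_eq_one_right hsum, map_inv, hrest]
  rw [map_pow] at h1
  exact (powCoprime hcop.symm).injective h1

/-- Fixed points of a coprime group generating by commutators are trivial. -/
theorem eq_one_of_fixed_of_gen (τ : T →* MulAut V) (hcop : (Nat.card T).Coprime (Nat.card V))
    (hgen : ∀ K : Subgroup V, (∀ t v, τ t v / v ∈ K) → K = ⊤) {v : V} (hv : ∀ t, τ t v = v) :
    v = 1 := by
  classical
  cases nonempty_fintype T
  let Nm : V →* V :=
    { toFun := fun w => ∏ x : T, τ x w
      map_one' := by simp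
      map_mul' := fun a b => by simp [Finset.prod_mul_distrib] }
  have hK : Nm.ker = ⊤ := hgen _ fun s w => by
    rw [MonoidHom.mem_ker, map_div, div_eq_one]
    exact Fintype.prod_equiv (Equiv.mulRight s) _ _ fun x => by
      rw [Equiv.coe_mulRight, map_mul, MulAut.mul_apply]
  have h1 : Nm v = 1 := by rw [← MonoidHom.mem_ker, hK]; exact mem_top v
  have h2 : v ^ Nat.card T = 1 := by
    rw [← h1]
    show _ = ∏ x : T, τ x v
    simp [hv]
  exact (powCoprime hcop.symm).injective (show v ^ Nat.card T = 1 ^ Nat.card T by rw [h2, one_pow])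

end Module

variable {G : Type u} {A : Type v} [Group G] [Finite G] [Group A]

/-- Conjugation of a subgroup by a normalising subgroup. -/
def conjHom (T D : Subgroup G) (h : T ≤ normalizer (D : Set G)) : T →* MulAut D where
  toFun t :=
    { toFun := fun x => ⟨t * x * (t : G)⁻¹, (mem_normalizer_iff.1 (h t.2) x).1 x.2⟩
      invFun := fun x => ⟨(t : G)⁻¹ * x * t, by
        have := (mem_normalizer_iff.1 (h (inv_mem t.2)) x).1 x.2
        simpa using this⟩
      left_inv := fun x => Subtype.ext (by simp [mul_assoc])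
      right_inv := fun x => Subtype.ext (by simp [mul_assoc])
      map_mul' := fun x y => Subtype.ext (by simp [mul_assoc]) }
  map_one' := by ext x; simp
  map_mul' s t := by ext x; simp [mul_assoc]

@[simp] theorem coe_conjHom (T D : Subgroup G) (h : T ≤ normalizer (D : Set G)) (t : T) (x : D) :
    ((conjHom T D h t x : D) : G) = t * x * (t : G)⁻¹ := rfl

/-- The Frattini quotient of a p-group as a module for an operator group. -/
theorem frattini_facts {r : ℕ} [Fact r.Prime] {D : Type u} [Group D] [Finite D]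
    (hD : IsPGroup r D) (U : Subgroup D) :
    (U ⊔ frattini D).Normal ∧ ∀ x y : D, ⁅x, y⁆ ∈ U ⊔ frattini D := by
  have h : ∀ x y : D, ⁅x, y⁆ ∈ U ⊔ frattini D := fun x y =>
    mem_sup_right (CfsgLib.Solvable.commutator_le_frattini hD
      (commutator_mem_commutator (mem_top x) (mem_top y)))
  refine ⟨⟨fun k hk g => ?_⟩, h⟩
  have := mul_mem (h g k) hk
  rwa [commutatorElement_def, inv_mul_cancel_right] at this

variable (φ : A →* MulAut G)

/-- `T`-closure of the fixed points of `b` is everything when `[D,T] = D`. -/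
theorem le_of_fixed_le [Finite A] (hA : ∀ x y : A, x * y = y * x) {q : ℕ} [Fact q.Prime]
    (hexp : ∀ x : A, x ^ q = 1) (hcop : (Nat.card A).Coprime (Nat.card G))
    {r : ℕ} [Fact r.Prime] {D T U : Subgroup G} (hD : IsPGroup r D) (hDi : IsInvariant φ D)
    (hTD : T ≤ normalizer (D : Set G)) (hTi : IsInvariant φ T) (hTr : ¬ r ∣ Nat.card T)
    {b : A} (hTb : ∀ x ∈ T, φ b x = x → x = 1) (hgen : D ≤ ⁅D, T⁆)
    (hTU : T ≤ normalizer (U : Set G)) (hUi : IsInvariant φ U)
    (hfix : ∀ x ∈ D, φ b x = x → x ∈ U) : D ≤ U := by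
  classical
  set K : Subgroup D := U.subgroupOf D ⊔ frattini D with hK
  obtain ⟨hKn, hKc⟩ := frattini_facts hD (U.subgroupOf D)
  haveI : K.Normal := hKn
  have hstab : ∀ e : MulAut D, (∀ x : D, (x : G) ∈ U → ((e x : D) : G) ∈ U) →
      ∀ x ∈ K, e x ∈ K := by
    intro e he x hx
    have : K ≤ K.comap e.toMonoidHom := by
      refine sup_le (fun y hy => ?_) ?_
      · exact mem_sup_left (he y hy)
      · refine le_trans (le_of_eq ?_) (comap_mono le_sup_right)
        exact ((frattini_characteristic (G := D)).fixed e).symm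
    exact this hx
  letI : CommGroup (D ⧸ K) :=
    { (inferInstance : Group (D ⧸ K)) with
      mul_comm := fun a b => by
        induction a using QuotientGroup.induction_on with
        | H x =>
          induction b using QuotientGroup.induction_on with
          | H y =>
            rw [← QuotientGroup.mk_mul, ← QuotientGroup.mk_mul, QuotientGroup.eq,
              show (x * y)⁻¹ * (y * x) = ⁅y⁻¹, x⁻¹⁆ by rw [commutatorElement_def]; group]
            exact hKc _ _ }
  obtain ⟨τ, hτ⟩ := exists_quotient_action (conjHom T D hTD) K fun t x hx =>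
    hstab _ (fun y hy => by
      rw [coe_conjHom]; exact (mem_normalizer_iff.1 (hTU t.2) _).1 hy) x hx
  obtain ⟨α, hα⟩ := exists_quotient_action (restr φ D hDi) K fun a x hx =>
    hstab _ (fun y hy => hUi a _ hy) x hx
  let σ : MulAut T := restr φ T hTi b
  have hb1 : (α b) ^ q = 1 := by rw [← map_pow, hexp, map_one]
  have hcopT : (Nat.card T).Coprime (Nat.card (D ⧸ K)) := by
    refine Nat.Coprime.coprime_dvd_right (card_quotient_dvd_card K) ?_
    obtain ⟨n, hn⟩ := hD.exists_card_eq
    rw [hn]
    exact ((Fact.out : r.Prime).coprime_iff_not_dvd.2 hTr).symm.pow_right n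
  have hfixq : ∀ w : D ⧸ K, α b w = w → w = 1 := by
    intro w hw
    induction w using QuotientGroup.induction_on with
    | H x =>
      haveI : Finite (zpowers b) := inferInstance
      obtain ⟨c, hc, hxc⟩ := CfsgLib.Coprime.exists_fixed_mem_coset_hom
        ((restr φ D hDi).comp (zpowers b).subtype) (N := K)
        (fun a y hy => hstab _ (fun z hz => hUi a _ hz) y hy)
        ((hcop.coprime_dvd_left (card_subgroup_dvd_card _)).coprime_dvd_right
          ((card_subgroup_dvd_card K).trans (card_subgroup_dvd_card D)))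
        (Or.inl (Group.isSolvable_of_comm fun a c => Subtype.ext (hA a c))) (k := x)
        (fun a => by
          rw [← QuotientGroup.eq]
          obtain ⟨i, hi⟩ := mem_zpowers_iff.1 a.2
          show (x : D ⧸ K) = ((restr φ D hDi a x : D) : D ⧸ K)
          rw [← hα, ← hi, map_zpow]
          have hst : α b ∈ MulAction.stabilizer (MulAut (D ⧸ K)) (x : D ⧸ K) := hw
          exact (zpow_mem hst i).symm)
      have hcb : φ b (c : G) = c := congrArg Subtype.val (hc ⟨b, mem_zpowers b⟩)
      rw [QuotientGroup.eq_one_iff]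
      have hcK : c ∈ K := mem_sup_left (hfix _ c.2 hcb)
      have := mul_mem hcK (inv_mem hxc)
      rwa [mul_inv_rev, inv_inv, mul_inv_cancel_left] at this
  have htriv := trivial_of_fpf τ (α b) σ (Fact.out : q.Prime).pos hb1
    (fun i hi hiq t ht => by
      have h1 : φ (b ^ i) (t : G) = t := by
        have h2 : σ ^ i = restr φ T hTi (b ^ i) := by rw [map_pow]
        rw [h2] at ht
        exact congrArg Subtype.val ht
      obtain ⟨k, hk⟩ := exists_pow_pow_eq hexp b (Finset.mem_Ico.2 ⟨hi, hiq⟩)
      refine Subtype.ext (hTb _ t.2 ?_)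
      have h4 : b ^ i ∈ fixer φ (t : G) := h1
      exact hk ▸ pow_mem h4 k)
    (fun t w => by
      induction w using QuotientGroup.induction_on with
      | H x =>
        rw [hτ, hα, hα, hτ]
        congr 1
        ext
        simp [σ, restr])
    hcopT hfixq
  have hDK : ⁅D, T⁆ ≤ K.map D.subtype := by
    rw [commutator_le]
    intro x hx t ht
    have h1 := htriv ⟨t, ht⟩ ((⟨x, hx⟩ : D) : D ⧸ K)
    rw [hτ, QuotientGroup.eq] at h1
    refine ⟨_, hKn.mem_comm h1, ?_⟩
    simp [commutatorElement_def, mul_assoc]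
  have htop : K = ⊤ := by
    rw [eq_top_iff]
    intro x _
    obtain ⟨y, hy, hyx⟩ := hDK (hgen x.2)
    exact Subtype.ext hyx ▸ hy
  have h := frattini_nongenerating htop
  exact subgroupOf_eq_top.1 h

end CfsgLib.FpfRankTwo73
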