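import Mathlib
import Cfsg.Agent.FpfRankTwo73.Module
import Cfsg.Agent.PLocal.Cores

/-!
# Fixed-point-free group of order q² with abelian centralisers: setting and elementary tools
-/

set_option autoImplicit false

namespace CfsgLib.FpfRankTwo73

open Subgroup CfsgLib.SolvCrit CfsgLib.Ward
open scoped commutatorElement

universe u v

variable {G : Type u} {A : Type v} [Group G] [Finite G] [Group A] [Finite A]

/-- A minimal counterexample. -/
structure Hyp (φ : A →* MulAut G) (q : ℕ) : Prop where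
  comm : ∀ a b : A, a * b = b * a
  exp : ∀ a : A, a ^ q = 1
  card : Nat.card A = q ^ 2
  fpf : ∀ x : G, (∀ a, φ a x = x) → x = 1
  abel : ∀ a : A, a ≠ 1 → ∀ x y : G, φ a x = x → φ a y = y → x * y = y * x
  solv : ∀ H : Subgroup G, IsInvariant φ H → H ≠ ⊤ → Group.IsSolvable H
  simple : ∀ N : Subgroup G, N.Normal → IsInvariant φ N → N = ⊥ ∨ N = ⊤
  not_solv : ¬ Group.IsSolvable G

variable {φ : A →* MulAut G} {q : ℕ} [hq : Fact q.Prime]

/-- Invariant Sylow subgroups are unique when there are no fixed points. -/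
theorem sylow_eq_of_invariant {H : Type*} [Group H] [Finite H] (ψ : A →* MulAut H)
    (hfpf : ∀ x : H, (∀ a, ψ a x = x) → x = 1) (hcop : (Nat.card A).Coprime (Nat.card H))
    (hA : ∀ a b : A, a * b = b * a) {r : ℕ} [Fact r.Prime] {P Q : Sylow r H}
    (hP : IsInvariant ψ (P : Subgroup H)) (hQ : IsInvariant ψ (Q : Subgroup H)) : P = Q := by
  obtain ⟨g, hg⟩ := MulAction.exists_smul_eq H P Q
  have hgQ : (P : Subgroup H).map (MulAut.conj g).toMonoidHom = Q := by rw [← hg]; rfl
  have hN : ∀ a, g⁻¹ * ψ a g ∈ normalizer ((P : Subgroup H) : Set H) := by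
    intro a
    have h1 : (P : Subgroup H).map (MulAut.conj (ψ a g)).toMonoidHom = Q := by
      conv_rhs => rw [← hQ.map_eq a, ← hgQ, map_map]
      conv_lhs => rw [← hP.map_eq a, map_map]
      congr 1
      ext x
      simp
    rw [mem_normalizer_iff]
    intro x
    have key : ∀ y, y ∈ (Q : Subgroup H) ↔ g⁻¹ * y * g ∈ (P : Subgroup H) := fun y => by
      rw [← hgQ, mem_map_equiv, MulAut.conj_symm_apply]
    have key' : ∀ y, y ∈ (Q : Subgroup H) ↔ (ψ a g)⁻¹ * y * ψ a g ∈ (P : Subgroup H) := fun y => by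
      rw [← h1, mem_map_equiv, MulAut.conj_symm_apply]
    have h2 := (key (ψ a g * x * (ψ a g)⁻¹)).symm.trans (key' _)
    rw [show (ψ a g)⁻¹ * (ψ a g * x * (ψ a g)⁻¹) * ψ a g = x by group] at h2
    rw [← h2]
    simp [mul_assoc]
  obtain ⟨c, hc, hgc⟩ := CfsgLib.Coprime.exists_fixed_mem_coset_hom ψ
    (N := normalizer ((P : Subgroup H) : Set H)) hP.normalizer
    (hcop.coprime_dvd_right (card_subgroup_dvd_card _))
    (Or.inl (Group.isSolvable_of_comm hA)) (k := g) hN
  rw [hfpf c hc, mul_one, inv_mem_iff] at hgc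
  rw [← hg]
  exact (Sylow.smul_eq_iff_mem_normalizer.2 hgc).symm

theorem IsInvariant.map_subtype {H : Subgroup G} (hH : IsInvariant φ H) {K : Subgroup H}
    (hK : IsInvariant (restr φ H hH) K) : IsInvariant φ (K.map H.subtype) := by
  rintro a _ ⟨x, hx, rfl⟩
  exact ⟨_, hK a x hx, rfl⟩

theorem isInvariant_bot (φ : A →* MulAut G) : IsInvariant φ (⊥ : Subgroup G) := fun a x hx => by
  rw [mem_bot] at hx ⊢
  rw [hx, map_one]

theorem isInvariant_top (φ : A →* MulAut G) : IsInvariant φ (⊤ : Subgroup G) := fun _ _ _ =>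
  mem_top _

theorem IsInvariant.commutator {X Y : Subgroup G} (hX : IsInvariant φ X) (hY : IsInvariant φ Y) :
    IsInvariant φ ⁅X, Y⁆ := fun a x hx => by
  have h : (⁅X, Y⁆).map (φ a : MulAut G).toMonoidHom = ⁅X, Y⁆ := by
    rw [map_commutator, hX.map_eq, hY.map_eq]
  exact h ▸ mem_map_of_mem _ hx

theorem isInvariant_frattini {D : Subgroup G} (hD : IsInvariant φ D) :
    IsInvariant φ ((frattini D).map D.subtype) :=
  IsInvariant.map_subtype hD fun a x hx => by
    have h := (frattini_characteristic (G := D)).fixed (restr φ D hD a)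
    exact (h.ge hx : x ∈ (frattini D).comap (restr φ D hD a).toMonoidHom)

theorem le_normalizer_of_conj_mem {T W : Subgroup G} (h : ∀ t ∈ T, ∀ x ∈ W, t * x * t⁻¹ ∈ W) :
    T ≤ normalizer (W : Set G) := fun t ht => by
  rw [mem_normalizer_iff]
  refine fun x => ⟨h t ht x, fun hx => ?_⟩
  simpa [mul_assoc] using h t⁻¹ (inv_mem ht) _ hx

theorem le_normalizer_centralizer' {T W : Subgroup G} (h : T ≤ normalizer (W : Set G)) :
    T ≤ normalizer ((centralizer (W : Set G) : Subgroup G) : Set G) := by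
  refine le_normalizer_of_conj_mem fun t ht x hx y hy => ?_
  have h1 := hx _ ((mem_normalizer_iff.1 (h (inv_mem ht)) y).1 hy)
  simp only [inv_inv] at h1
  calc y * (t * x * t⁻¹) = t * ((t⁻¹ * y * t) * x) * t⁻¹ := by group
    _ = t * (x * (t⁻¹ * y * t)) * t⁻¹ := by rw [h1]
    _ = t * x * t⁻¹ * y := by group

theorem le_normalizer_map_frattini {T D : Subgroup G} (h : T ≤ normalizer (D : Set G)) :
    T ≤ normalizer (((frattini D).map D.subtype : Subgroup G) : Set G) := by
  refine le_normalizer_of_conj_mem fun t ht x hx => ?_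
  obtain ⟨y, hy, rfl⟩ := hx
  exact ⟨_, (Subgroup.ext_iff.1 ((frattini_characteristic (G := D)).fixed
    (conjHom T D h ⟨t, ht⟩)) y).2 hy, rfl⟩

theorem le_centralizer_comm {X Y : Subgroup G} (h : X ≤ centralizer (Y : Set G)) :
    Y ≤ centralizer (X : Set G) := Subgroup.le_centralizer_iff.1 h

theorem not_dvd_of_isPGroup {r s : ℕ} [Fact r.Prime] [Fact s.Prime] (hrs : r ≠ s) {T : Subgroup G}
    (hT : IsPGroup s T) : ¬ r ∣ Nat.card T := by
  obtain ⟨n, hn⟩ := hT.exists_card_eq
  rw [hn]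
  exact fun h => hrs ((Nat.prime_dvd_prime_iff_eq Fact.out Fact.out).1
    ((Fact.out : r.Prime).dvd_of_dvd_pow h))

theorem coprime_of_not_dvd {r : ℕ} [Fact r.Prime] {D T : Subgroup G} (hD : IsPGroup r D)
    (hT : ¬ r ∣ Nat.card T) : (Nat.card T).Coprime (Nat.card D) := by
  obtain ⟨n, hn⟩ := hD.exists_card_eq
  rw [hn]
  exact ((Fact.out : r.Prime).coprime_iff_not_dvd.2 hT).symm.pow_right n

/-- Sylow subgroups determine a subgroup. -/
theorem eq_of_ordProj_dvd {K H : Subgroup G} (hKH : K ≤ H)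
    (h : ∀ r : ℕ, r.Prime → r ^ (Nat.card H).factorization r ∣ Nat.card K) : K = H := by
  refine eq_of_le_of_card_ge hKH (Nat.le_of_dvd Nat.card_pos ?_)
  rw [← Nat.factorization_le_iff_dvd Nat.card_pos.ne' Nat.card_pos.ne']
  intro r
  by_cases hr : r.Prime
  · exact (hr.pow_dvd_iff_le_factorization Nat.card_pos.ne').1 (h r hr)
  · simp [Nat.factorization_eq_zero_of_not_prime _ hr]

namespace Hyp

variable (h : Hyp φ q)
include h

theorem nc : ¬ IsCyclic A := not_isCyclic h.exp h.card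

theorem cop : (Nat.card A).Coprime (Nat.card G) := coprime_card φ h.card h.fpf

theorem exists_notMem {a : A} : ∃ b, b ∉ zpowers a := by
  by_contra! hb
  exact h.nc ⟨⟨a, hb⟩⟩

omit hq in
theorem ne_one_of_notMem {a b : A} (hb : b ∉ zpowers a) : b ≠ 1 := fun e => hb (e ▸ one_mem _)

theorem inv_fix (a : A) : IsInvariant φ (fixedBy φ a) := fun c _ hx =>
  fixedBy_invariant φ h.comm a c hx

theorem fix_eq {a c : A} (hc : c ∈ zpowers a) (hc1 : c ≠ 1) : fixedBy φ c = fixedBy φ a :=
  fixedBy_eq_of_mem φ h.exp hc hc1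

theorem fix_comm {a : A} (ha : a ≠ 1) {x y : G} (hx : x ∈ fixedBy φ a) (hy : y ∈ fixedBy φ a) :
    x * y = y * x := h.abel a ha x y hx hy

theorem eq_one_of_two {a b : A} (ha : a ≠ 1) (hb : b ∉ zpowers a) {x : G}
    (hax : x ∈ fixedBy φ a) (hbx : φ b x = x) : x = 1 :=
  eq_one_of_fixed φ h.comm h.exp h.card h.fpf ha hb hax hbx

theorem le_of_fixed {L W : Subgroup G} (hL : IsInvariant φ L)
    (hW : ∀ c : A, c ≠ 1 → ∀ x ∈ L, x ∈ fixedBy φ c → x ∈ W) : L ≤ W :=
  Ward.le_of_fixed φ h.comm h.nc h.cop hL hW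

theorem closure_le {a b : A} (ha : a ≠ 1) (hb : b ∉ zpowers a) {r : ℕ} [Fact r.Prime]
    {W T U : Subgroup G} (hW : IsPGroup r W) (hWi : IsInvariant φ W)
    (hTW : T ≤ normalizer (W : Set G)) (hTi : IsInvariant φ T) (hTa : T ≤ fixedBy φ a)
    (hTr : ¬ r ∣ Nat.card T) (hgen : W ≤ ⁅W, T⁆) (hTU : T ≤ normalizer (U : Set G))
    (hUi : IsInvariant φ U) (hfix : W ⊓ fixedBy φ b ≤ U) : W ≤ U :=
  le_of_fixed_le φ h.comm h.exp h.cop hW hWi hTW hTi hTr
    (fun _ hx hbx => h.eq_one_of_two ha hb (hTa hx) hbx) hgen hTU hUi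
    (fun _ hx hbx => hfix ⟨hx, hbx⟩)

/-- `T`, fixed by `a`, centralises `D` as soon as it centralises the fixed points of `b`. -/
theorem centralizes {a b : A} (ha : a ≠ 1) (hb : b ∉ zpowers a) {r : ℕ} [Fact r.Prime]
    {D T : Subgroup G} (hD : IsPGroup r D) (hDi : IsInvariant φ D)
    (hTD : T ≤ normalizer (D : Set G)) (hTi : IsInvariant φ T) (hTa : T ≤ fixedBy φ a)
    (hTr : ¬ r ∣ Nat.card T) (hfix : D ⊓ fixedBy φ b ≤ centralizer (T : Set G)) :
    T ≤ centralizer (D : Set G) := by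
  have hle := CfsgLib.Coprime.commutator_le_of_le_normalizer hTD
  have hcop := coprime_of_not_dvd hD hTr
  have hgen : ⁅D, T⁆ ≤ ⁅⁅D, T⁆, T⁆ := (CfsgLib.Coprime.commutator_commutator_eq hTD hcop).ge
  have h1 : ⁅D, T⁆ ≤ centralizer (T : Set G) :=
    h.closure_le ha hb (hD.to_le hle) (IsInvariant.commutator hDi hTi)
      (le_sup_right.trans (CfsgLib.Coprime.sup_le_normalizer_commutator D T)) hTi hTa hTr hgen
      (le_normalizer_centralizer' le_normalizer) hTi.centralizer
      ((inf_le_inf_right _ hle).trans hfix)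
  rw [← commutator_eq_bot_iff_le_centralizer] at h1
  exact CfsgLib.Coprime.le_centralizer_of_commutator_commutator_eq_bot hTD hcop h1

/-- For `W = [W,T]`, the fixed points of `a` lie in the Frattini subgroup. -/
theorem fix_le_frattini {a : A} (ha : a ≠ 1) {r : ℕ} [Fact r.Prime]
    {W T : Subgroup G} (hW : IsPGroup r W)
    (hTW : T ≤ normalizer (W : Set G)) (hTa : T ≤ fixedBy φ a)
    (hTr : ¬ r ∣ Nat.card T) (hgen : W ≤ ⁅W, T⁆) :
    W ⊓ fixedBy φ a ≤ (frattini W).map W.subtype := by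
  obtain ⟨hKn, hKc⟩ := frattini_facts hW (⊥ : Subgroup W)
  rw [bot_sup_eq] at hKn hKc
  letI : CommGroup (W ⧸ frattini W) :=
    { (inferInstance : Group (W ⧸ frattini W)) with
      mul_comm := fun a b => by
        induction a using QuotientGroup.induction_on with
        | H x =>
          induction b using QuotientGroup.induction_on with
          | H y =>
            rw [← QuotientGroup.mk_mul, ← QuotientGroup.mk_mul, QuotientGroup.eq,
              show (x * y)⁻¹ * (y * x) = ⁅y⁻¹, x⁻¹⁆ by rw [commutatorElement_def]; group]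
            exact hKc _ _ }
  obtain ⟨τ, hτ⟩ := exists_quotient_action (conjHom T W hTW) (frattini W) fun t x hx =>
    (Subgroup.ext_iff.1 ((frattini_characteristic (G := W)).fixed (conjHom T W hTW t)) x).2 hx
  rintro x ⟨hxW, hxa⟩
  refine ⟨⟨x, hxW⟩, ?_, rfl⟩
  refine (QuotientGroup.eq_one_iff _).1 (eq_one_of_fixed_of_gen τ ?_ ?_ fun t => ?_)
  · exact (coprime_of_not_dvd hW hTr).coprime_dvd_right (card_quotient_dvd_card _)
  · intro K hK
    rw [eq_top_iff]
    intro w _
    induction w using QuotientGroup.induction_on with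
    | H y =>
      have hle : ⁅W, T⁆ ≤ (K.comap (QuotientGroup.mk' (frattini W))).map W.subtype := by
        rw [commutator_le]
        intro z hz t ht
        refine ⟨⟨z, hz⟩ * (conjHom T W hTW ⟨t, ht⟩ ⟨z⁻¹, inv_mem hz⟩), ?_, by
          simp [commutatorElement_def, mul_assoc]⟩
        have := hK ⟨t, ht⟩ ((⟨z⁻¹, inv_mem hz⟩ : W) : W ⧸ frattini W)
        rw [hτ, div_eq_mul_inv, mul_comm] at this
        rw [SetLike.mem_coe, mem_comap, map_mul, show (⟨z, hz⟩ : W) = (⟨z⁻¹, inv_mem hz⟩ : W)⁻¹ from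
          Subtype.ext (by simp), map_inv]
        exact this
      obtain ⟨z, hz, hzy⟩ := hle (hgen y.2)
      exact (Subtype.ext hzy : z = y) ▸ hz
  · rw [hτ]
    congr 1
    ext
    rw [coe_conjHom, h.fix_comm ha (hTa t.2) hxa, mul_inv_cancel_right]

/-- Generation by the lines other than that of `a`. -/
theorem le_of_fix_other {a : A} (ha : a ≠ 1) {r : ℕ} [Fact r.Prime] {W T U : Subgroup G}
    (hW : IsPGroup r W) (hWi : IsInvariant φ W)
    (hTW : T ≤ normalizer (W : Set G)) (hTa : T ≤ fixedBy φ a)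
    (hTr : ¬ r ∣ Nat.card T) (hgen : W ≤ ⁅W, T⁆)
    (hfix : ∀ c : A, c ∉ zpowers a → W ⊓ fixedBy φ c ≤ U) : W ≤ U := by
  have h1 : W ≤ (U ⊓ W) ⊔ (frattini W).map W.subtype := by
    refine h.le_of_fixed hWi fun c hc x hxW hxc => ?_
    by_cases hca : c ∈ zpowers a
    · rw [h.fix_eq hca hc] at hxc
      exact mem_sup_right (h.fix_le_frattini ha hW hTW hTa hTr hgen ⟨hxW, hxc⟩)
    · exact mem_sup_left ⟨hfix c hca ⟨hxW, hxc⟩, hxW⟩
  have htop : U.subgroupOf W ⊔ frattini W = ⊤ := by
    refine map_injective (f := W.subtype) W.subtype_injective ?_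
    rw [Subgroup.map_sup, subgroupOf_map_subtype, ← MonoidHom.range_eq_map, range_subtype]
    exact le_antisymm (sup_le inf_le_right (map_subtype_le _)) h1
  exact subgroupOf_eq_top.1 (frattini_nongenerating htop)

/-- Subgroups of the other lines normalising `W = [W,T]` centralise it. -/
theorem centralizes_other {a c : A} (ha : a ≠ 1) (hc : c ∉ zpowers a) {r : ℕ} [Fact r.Prime]
    {W T S : Subgroup G} (hW : IsPGroup r W) (hWi : IsInvariant φ W)
    (hTW : T ≤ normalizer (W : Set G)) (hTa : T ≤ fixedBy φ a)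
    (hTr : ¬ r ∣ Nat.card T) (hgen : W ≤ ⁅W, T⁆)
    (hSW : S ≤ normalizer (W : Set G)) (hSi : IsInvariant φ S) (hSc : S ≤ fixedBy φ c)
    (hSr : ¬ r ∣ Nat.card S) : S ≤ centralizer (W : Set G) := by
  have hle := CfsgLib.Coprime.commutator_le_of_le_normalizer hSW
  have hcopS := coprime_of_not_dvd hW hSr
  have hc1 : c ≠ 1 := ne_one_of_notMem (h := h) hc
  have hgenS : ⁅W, S⁆ ≤ ⁅⁅W, S⁆, S⁆ :=
    (CfsgLib.Coprime.commutator_commutator_eq hSW hcopS).ge
  have h1 : ⁅W, S⁆ ≤ (frattini W).map W.subtype :=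
    h.closure_le hc1 (notMem_symm h.exp ha hc) (hW.to_le hle) (IsInvariant.commutator hWi hSi)
      (le_sup_right.trans (CfsgLib.Coprime.sup_le_normalizer_commutator W S)) hSi hSc hSr hgenS
      (le_normalizer_map_frattini hSW) (isInvariant_frattini hWi)
      ((inf_le_inf_right _ hle).trans (h.fix_le_frattini ha hW hTW hTa hTr hgen))
  exact CfsgLib.Coprime.le_centralizer_of_commutator_le_frattini hSW
    (hcopS.coprime_dvd_right (card_subgroup_dvd_card _)) h1

theorem exists_syl (r : ℕ) [Fact r.Prime] : ∃ P : Subgroup G, IsInvariant φ P ∧ IsPGroup r P ∧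
    (∀ U : Subgroup G, IsInvariant φ U → IsPGroup r U → U ≤ P) ∧
    ∀ H : Subgroup G, IsInvariant φ H →
      Nat.card ↥(P ⊓ H) = r ^ (Nat.card H).factorization r := by
  classical
  have hsol : Group.IsSolvable A := Group.isSolvable_of_comm h.comm
  have hSyl : ∀ (H : Subgroup G), IsInvariant φ H → ∃ S : Subgroup G, S ≤ H ∧ IsInvariant φ S ∧
      IsPGroup r S ∧ Nat.card S = r ^ (Nat.card H).factorization r ∧
      ∀ N : Subgroup G, N ≤ H → H ≤ normalizer (N : Set G) → IsPGroup r N → N ≤ S := by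
    intro H hH
    obtain ⟨S, hS⟩ := CfsgLib.Coprime.exists_invariant_sylow_hom (restr φ H hH)
      (h.cop.coprime_dvd_right (card_subgroup_dvd_card H)) (Or.inl hsol) r
    refine ⟨(S : Subgroup H).map H.subtype, map_subtype_le _, IsInvariant.map_subtype hH hS,
      S.isPGroup'.map _, ?_, fun N hN hn hp => ?_⟩
    · rw [card_map_of_injective H.subtype_injective, S.card_eq_multiplicity]
    · haveI := (normal_subgroupOf_iff_le_normalizer hN).2 hn
      have h1 : N.subgroupOf H ≤ (S : Subgroup H) :=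
        (CfsgLib.PLocal.le_pCore (N := N.subgroupOf H) hp.comap_subtype).trans (CfsgLib.PLocal.pCore_le_sylow S)
      have := map_mono (f := H.subtype) h1
      rwa [map_subgroupOf_eq_of_le hN] at this
  have huniq : ∀ S S' : Sylow r G, IsInvariant φ (S : Subgroup G) →
      IsInvariant φ (S' : Subgroup G) → S = S' := fun S S' hS hS' =>
    sylow_eq_of_invariant φ h.fpf h.cop h.comm hS hS'
  obtain ⟨P0, hP0⟩ := CfsgLib.Coprime.exists_invariant_sylow_hom φ h.cop (Or.inl hsol) r
  have hup : ∀ U : Subgroup G, IsInvariant φ U → IsPGroup r U → U ≤ (P0 : Subgroup G) := by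
    intro U hU hUp
    obtain ⟨M, hUM, ⟨⟨hMi, hMp⟩, hMmax⟩⟩ := Finite.exists_le_maximal
      (p := fun X : Subgroup G => IsInvariant φ X ∧ IsPGroup r X) ⟨hU, hUp⟩
    obtain ⟨S, hSN, hSi, hSp, hScard, hSn⟩ := hSyl _ hMi.normalizer
    have hMS : M ≤ S := hSn M le_normalizer le_rfl hMp
    have hSM : S = M := le_antisymm (hMmax ⟨hSi, hSp⟩ hMS) hMS
    obtain ⟨Q, hQ⟩ := hMp.exists_le_sylow
    rcases hQ.lt_or_eq with hlt | heq
    · exfalso
      haveI := Q.isPGroup'.isNilpotent
      have hne : (M.subgroupOf (Q : Subgroup G)) < ⊤ := by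
        rw [lt_top_iff_ne_top, Ne, subgroupOf_eq_top]
        exact hlt.not_ge
      obtain ⟨x, hxn, hx⟩ := SetLike.exists_of_lt
        (Group.normalizerCondition_of_isNilpotent _ hne)
      have hxN : (x : G) ∈ normalizer (M : Set G) ⊓ (Q : Subgroup G) := by
        refine ⟨?_, x.2⟩
        rw [← subgroupOf_normalizer_eq hQ] at hxn
        exact hxn
      have hMlt : M < normalizer (M : Set G) ⊓ (Q : Subgroup G) :=
        lt_of_le_of_ne (le_inf le_normalizer hQ) fun e => hx (by
          show (x : G) ∈ M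
          rw [e]; exact hxN)
      have h1 : IsPGroup r ↥(normalizer (M : Set G) ⊓ (Q : Subgroup G)) :=
        Q.isPGroup'.to_le inf_le_right
      obtain ⟨k, hk⟩ := h1.exists_card_eq
      have h2 : r ^ k ∣ r ^ (Nat.card ↥(normalizer (M : Set G))).factorization r := by
        refine pow_dvd_pow r (((Fact.out : r.Prime).pow_dvd_iff_le_factorization
          Nat.card_pos.ne').1 ?_)
        rw [← hk]
        exact card_dvd_of_le inf_le_left
      have h3 := Nat.le_of_dvd (pow_pos (Fact.out : r.Prime).pos _) h2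
      rw [← hk, ← hScard, hSM] at h3
      exact absurd (eq_of_le_of_card_ge hMlt.le h3) hMlt.ne
    · have h1 : IsInvariant φ (Q : Subgroup G) := heq ▸ hMi
      rw [← huniq Q P0 h1 hP0, ← heq]
      exact hUM
  refine ⟨P0, hP0, P0.isPGroup', hup, fun H hH => ?_⟩
  obtain ⟨S, hSH, hSi, hSp, hScard, -⟩ := hSyl H hH
  refine le_antisymm ?_ (hScard ▸ card_le_of_le (le_inf (hup S hSi hSp) hSH))
  obtain ⟨k, hk⟩ := (P0.isPGroup'.to_le (inf_le_left : (P0 : Subgroup G) ⊓ H ≤ _)).exists_card_eq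
  rw [hk]
  refine Nat.pow_le_pow_right (Fact.out : r.Prime).pos
    (((Fact.out : r.Prime).pow_dvd_iff_le_factorization Nat.card_pos.ne').1 ?_)
  rw [← hk]
  exact card_dvd_of_le inf_le_right

/-- The invariant Sylow subgroup. -/
noncomputable def syl (r : ℕ) [Fact r.Prime] : Subgroup G := (h.exists_syl r).choose

theorem syl_inv (r : ℕ) [Fact r.Prime] : IsInvariant φ (h.syl r) :=
  (h.exists_syl r).choose_spec.1

theorem syl_pgroup (r : ℕ) [Fact r.Prime] : IsPGroup r (h.syl r) :=
  (h.exists_syl r).choose_spec.2.1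

theorem le_syl {r : ℕ} [Fact r.Prime] {U : Subgroup G} (hU : IsInvariant φ U)
    (hp : IsPGroup r U) : U ≤ h.syl r := (h.exists_syl r).choose_spec.2.2.1 U hU hp

theorem card_syl_inf (r : ℕ) [Fact r.Prime] {H : Subgroup G} (hH : IsInvariant φ H) :
    Nat.card ↥(h.syl r ⊓ H) = r ^ (Nat.card H).factorization r :=
  (h.exists_syl r).choose_spec.2.2.2 H hH

/-- An invariant subgroup lies in any subgroup containing its invariant Sylow subgroups. -/
theorem le_of_syl {H K : Subgroup G} (hH : IsInvariant φ H)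
    (hK : ∀ r : ℕ, [Fact r.Prime] → h.syl r ⊓ H ≤ K) : H ≤ K := by
  refine inf_eq_left.1 (eq_of_ordProj_dvd inf_le_left fun r hr => ?_)
  haveI := Fact.mk hr
  rw [← h.card_syl_inf r hH]
  exact card_dvd_of_le (le_inf inf_le_right (hK r))

theorem centralizer_ne_top {X : Subgroup G} (hX1 : X ≠ ⊥) :
    centralizer (X : Set G) ≠ ⊤ := by
  intro e
  haveI : (center G).Normal := inferInstance
  rcases h.simple (center G) inferInstance (isInvariant_of_characteristic (φ := φ)) with hz | hz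
  · exact hX1 (le_bot_iff.1 (fun x hx => by
      rw [← hz, mem_center_iff]
      intro g
      exact ((e.ge (mem_top g) : g ∈ centralizer (X : Set G)) x hx).symm))
  · exact h.not_solv (Group.isSolvable_of_comm fun x y =>
      (mem_center_iff.1 (hz.ge (mem_top y) : y ∈ center G) x))

theorem normalizer_ne_top {X : Subgroup G} (hXi : IsInvariant φ X) (hX1 : X ≠ ⊥) (hX : X ≠ ⊤) :
    normalizer (X : Set G) ≠ ⊤ := fun e =>
  (h.simple X (normalizer_eq_top_iff.1 e) hXi).elim hX1 hX

end Hyp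

end CfsgLib.FpfRankTwo73
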