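import Mathlib
import Cfsg.Agent.FpfRankTwo73.Setup
import Cfsg.Agent.Ward.Height
import Cfsg.Agent.LocalStructure.Cores
import Cfsg.Agent.LocalStructure.Elements
import Cfsg.Agent.Coprime.PTimesQ
import Cfsg.Agent.Solvable.Nilpotent

/-!
# Maximal invariant subgroups: cores, self-centralising property, Bender's lemma
-/

set_option autoImplicit false

namespace CfsgLib.FpfRankTwo73

open Subgroup CfsgLib.SolvCrit CfsgLib.Ward
open Cfsg (pCore pCoreOf)
open scoped commutatorElement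

universe u v

section Group

variable {X : Type u} [Group X] [Finite X]

theorem le_pCore_of_nilpotent {N : Subgroup X} [N.Normal] [Group.IsNilpotent N] {v : ℕ}
    [Fact v.Prime] {S : Subgroup X} (hS : IsPGroup v S) (hSN : S ≤ N) : S ≤ pCore v X := by
  obtain ⟨P, hP⟩ := (hS.comap_subtype (K := N)).exists_le_sylow
  have h1 : (P : Subgroup N).Normal := inferInstance
  have h2 : S.subgroupOf N ≤ pCore v N := hP.trans (CfsgLib.PLocal.le_pCore (N := (P : Subgroup N)) P.isPGroup')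
  have h3 := (map_mono (f := N.subtype) h2).trans (CfsgLib.PLocal.pCore_map_subtype_le N)
  rwa [map_subgroupOf_eq_of_le hSN] at h3

theorem le_of_forall_pCore {N K : Subgroup X} [N.Normal] [Group.IsNilpotent N]
    (h : ∀ v : ℕ, [Fact v.Prime] → pCore v X ⊓ N ≤ K) : N ≤ K := by
  refine inf_eq_left.1 (eq_of_ordProj_dvd inf_le_left fun v hv => ?_)
  haveI := Fact.mk hv
  obtain ⟨P⟩ : Nonempty (Sylow v N) := inferInstance
  have h1 : (P : Subgroup N).map N.subtype ≤ N ⊓ K :=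
    le_inf (map_subtype_le _) ((le_inf (le_pCore_of_nilpotent (P.isPGroup'.map _) (map_subtype_le _))
      (map_subtype_le _)).trans (h v))
  rw [← P.card_eq_multiplicity, ← card_map_of_injective N.subtype_injective]
  exact card_dvd_of_le h1

/-- In a nilpotent-by-nilpotent group a `w`-subgroup centralising all `O_v`, `v ≠ w`, is in `O_w`. -/
theorem le_pCore_of_centralizes {N : Subgroup X} [N.Normal] [Group.IsNilpotent N]
    [Group.IsNilpotent (X ⧸ N)] {w : ℕ} [Fact w.Prime] {S : Subgroup X} (hS : IsPGroup w S)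
    (hc : ∀ v : ℕ, v.Prime → v ≠ w → S ≤ centralizer (pCore v X : Set X)) : S ≤ pCore w X := by
  classical
  set C : Subgroup X := ⨅ v : {v : ℕ // v.Prime ∧ v ≠ w}, centralizer (pCore (v : ℕ) X : Set X)
    with hC
  haveI : C.Normal := normal_iInf_normal fun v => by
    haveI : (pCore (v : ℕ) X).Normal := CfsgLib.LocalStructure.pCore_normal
    infer_instance
  have hSC : S ≤ C := le_iInf fun v => hc v v.2.1 v.2.2
  haveI : (pCore w X).Normal := CfsgLib.LocalStructure.pCore_normal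
  set D : Subgroup C := (pCore w X ⊓ N).subgroupOf C with hD
  haveI : D.Normal := inferInstance
  have hDw : IsPGroup w D :=
    ((CfsgLib.PLocal.isPGroup_pCore w X).to_le inf_le_left).comap_subtype
  have hDker : D ≤ ((QuotientGroup.mk' N).comp C.subtype).ker := fun x hx => by
    rw [MonoidHom.mem_ker]
    exact (QuotientGroup.eq_one_iff _).2 hx.2
  have key : ∀ x : C, (x : X) ∈ N → ∀ y : C, ⁅y, x⁆ ∈ D := by
    intro x hxN y
    obtain ⟨x1, x2, hx1, hx2, ⟨k, hk⟩, hcop, hx12⟩ :=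
      CfsgLib.LocalStructure.exists_pPart_mul (p := w) (x : X)
    have hz : zpowers (x : X) ≤ N := zpowers_le.2 hxN
    have hx1w : x1 ∈ pCore w X ⊓ N := by
      refine ⟨le_pCore_of_nilpotent (v := w) (IsPGroup.of_card (p := w) (n := k) ?_)
        (zpowers_le.2 (hz hx1)) (mem_zpowers x1), hz hx1⟩
      rw [Nat.card_zpowers, hk]
    have hx2c : zpowers x2 ≤ centralizer {(y : X)} := by
      refine inf_eq_left.1 (eq_of_ordProj_dvd inf_le_left fun v hv => ?_)
      haveI := Fact.mk hv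
      obtain ⟨P⟩ : Nonempty (Sylow v (zpowers x2)) := inferInstance
      rw [← P.card_eq_multiplicity, ← card_map_of_injective (zpowers x2).subtype_injective]
      refine card_dvd_of_le (le_inf (map_subtype_le _) ?_)
      by_cases hvw : v = w
      · subst hvw
        intro z hz'
        have h1 : z ∈ zpowers x2 := map_subtype_le _ hz'
        have h2 : (orderOf z).Coprime v := hcop.coprime_dvd_left (by
          rw [← Nat.card_zpowers x2, ← Nat.card_zpowers z]
          exact card_dvd_of_le (zpowers_le.2 h1))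
        rw [CfsgLib.LocalStructure.eq_one_of_coprime_of_mem (P.isPGroup'.map _) hz' h2]
        exact one_mem _
      · intro z hz'
        have h1 : z ∈ pCore v X := le_pCore_of_nilpotent (P.isPGroup'.map _)
          ((map_subtype_le _).trans (zpowers_le.2 (hz hx2))) hz'
        have h2 := (iInf_le (fun v : {v : ℕ // v.Prime ∧ v ≠ w} =>
          centralizer (pCore (v : ℕ) X : Set X)) ⟨v, hv, hvw⟩) y.2 z h1
        rw [mem_centralizer_singleton_iff]
        exact h2
    have h3 : x2 * (y : X) = y * x2 := mem_centralizer_singleton_iff.1 (hx2c (mem_zpowers x2))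
    have hn : (pCore w X ⊓ N).Normal := inferInstance
    show ((⁅y, x⁆ : C) : X) ∈ pCore w X ⊓ N
    have h4 : ((⁅y, x⁆ : C) : X) = ((y : X) * x1 * (y : X)⁻¹) * x1⁻¹ := by
      show (y : X) * x * (y : X)⁻¹ * (x : X)⁻¹ = _
      rw [← hx12]
      calc (y : X) * (x1 * x2) * (y : X)⁻¹ * (x1 * x2)⁻¹
          = (y : X) * x1 * (x2 * (y : X)⁻¹) * x2⁻¹ * x1⁻¹ := by group
        _ = (y : X) * x1 * ((y : X)⁻¹ * x2) * x2⁻¹ * x1⁻¹ := by
            rw [(Commute.inv_right (h3 : Commute x2 (y : X))).eq]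
        _ = (y : X) * x1 * (y : X)⁻¹ * x1⁻¹ := by group
    rw [h4]
    exact mul_mem (hn.conj_mem _ hx1w _) (inv_mem hx1w)
  let f : C ⧸ D →* X ⧸ N := QuotientGroup.lift D ((QuotientGroup.mk' N).comp C.subtype) hDker
  haveI : Group.IsNilpotent f.range := inferInstance
  have hfk : f.rangeRestrict.ker ≤ center (C ⧸ D) := by
    intro q hq
    rw [MonoidHom.ker_rangeRestrict] at hq
    induction q using QuotientGroup.induction_on with
    | H x =>
      rw [mem_center_iff]
      intro z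
      induction z using QuotientGroup.induction_on with
      | H y =>
        have hxN : (x : X) ∈ N := (QuotientGroup.eq_one_iff _).1 hq
        rw [← QuotientGroup.mk_mul, ← QuotientGroup.mk_mul, QuotientGroup.eq,
          show (y * x)⁻¹ * (x * y) = ⁅x⁻¹, y⁻¹⁆ by rw [commutatorElement_def]; group]
        rw [← commutatorElement_inv]
        exact inv_mem (key x⁻¹ (inv_mem hxN) y⁻¹)
  haveI : Group.IsNilpotent (C ⧸ D) := Subgroup.isNilpotent_of_ker_le_center f.rangeRestrict hfk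
  have h5 : (S.subgroupOf C).map (QuotientGroup.mk' D) ≤ pCore w (C ⧸ D) :=
    le_pCore_of_nilpotent (N := (⊤ : Subgroup (C ⧸ D))) (hS.comap_subtype.map _) le_top
  rw [map_le_iff_le_comap, CfsgLib.PLocal.comap_pCore_quotient D hDw] at h5
  have h6 := (map_mono (f := C.subtype) h5).trans (CfsgLib.PLocal.pCore_map_subtype_le C)
  rwa [map_subgroupOf_eq_of_le hSC] at h6

end Group

variable {G : Type u} {A : Type v} [Group G] [Finite G] [Group A] [Finite A]
  {φ : A →* MulAut G} {q : ℕ} [hq : Fact q.Prime]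

/-- A maximal proper invariant subgroup. -/
structure IsMax (φ : A →* MulAut G) (M : Subgroup G) : Prop where
  inv : IsInvariant φ M
  ne_top : M ≠ ⊤
  max : ∀ H : Subgroup G, IsInvariant φ H → H ≠ ⊤ → M ≤ H → H = M

theorem core_inv {M : Subgroup G} (hM : IsInvariant φ M) (r : ℕ) :
    IsInvariant φ (pCoreOf r M) := fun a x hx => by
  have h : (pCoreOf r M).map (φ a : MulAut G).toMonoidHom ≤ pCoreOf r M := by
    refine CfsgLib.LocalStructure.le_pCoreOf ((map_mono (CfsgLib.LocalStructure.pCoreOf_le M)).trans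
      (hM.map_eq a).le) ?_ ((CfsgLib.LocalStructure.pCoreOf_isPGroup M).map _)
    exact (hM.map_eq a).ge.trans
      ((map_mono (CfsgLib.LocalStructure.le_normalizer_pCoreOf M)).trans (le_normalizer_map _))
  exact h (mem_map_of_mem _ hx)

theorem le_centralizer_of_primes {r s : ℕ} [Fact r.Prime] [Fact s.Prime] (hrs : r ≠ s)
    {X Y : Subgroup G} (hX : IsPGroup r X) (hY : IsPGroup s Y)
    (hXY : X ≤ normalizer (Y : Set G)) (hYX : Y ≤ normalizer (X : Set G)) :
    X ≤ centralizer (Y : Set G) := by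
  rw [← commutator_eq_bot_iff_le_centralizer, eq_bot_iff]
  refine le_trans (le_inf ?_ ?_) (IsPGroup.disjoint_of_ne r s hrs X Y hX hY).le_bot
  · exact CfsgLib.Coprime.commutator_le_of_le_normalizer hYX
  · rw [commutator_comm]
    exact CfsgLib.Coprime.commutator_le_of_le_normalizer hXY

theorem le_normalizer_inf' {T X Y : Subgroup G} (hX : T ≤ normalizer (X : Set G))
    (hY : T ≤ normalizer (Y : Set G)) : T ≤ normalizer ((X ⊓ Y : Subgroup G) : Set G) :=
  le_normalizer_of_conj_mem fun _ ht x hx =>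
    ⟨(mem_normalizer_iff.1 (hX ht) x).1 hx.1, (mem_normalizer_iff.1 (hY ht) x).1 hx.2⟩

theorem le_normalizer_centralizer_of_le {T X : Subgroup G} (h : T ≤ centralizer (X : Set G)) :
    T ≤ normalizer ((centralizer (X : Set G) : Subgroup G) : Set G) := h.trans le_normalizer

namespace Hyp

variable (h : Hyp φ q)
include h

theorem exists_max {H : Subgroup G} (hH : IsInvariant φ H) (hne : H ≠ ⊤) :
    ∃ M, IsMax φ M ∧ H ≤ M := by
  obtain ⟨M, hHM, ⟨⟨hi, hn⟩, hmax⟩⟩ := Finite.exists_le_maximal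
    (p := fun X : Subgroup G => IsInvariant φ X ∧ X ≠ ⊤) ⟨hH, hne⟩
  exact ⟨M, ⟨hi, hn, fun K h1 h2 h3 => le_antisymm (hmax ⟨h1, h2⟩ h3) h3⟩, hHM⟩

theorem syl_ne_top (r : ℕ) [Fact r.Prime] : h.syl r ≠ ⊤ := fun e => by
  have hp : IsPGroup r G := fun g => by
    obtain ⟨k, hk⟩ := h.syl_pgroup r ⟨g, e ▸ mem_top g⟩
    exact ⟨k, congrArg Subtype.val hk⟩
  haveI := hp.isNilpotent
  exact h.not_solv inferInstance

theorem max_ne_bot {M : Subgroup G} (hM : IsMax φ M) : M ≠ ⊥ := by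
  rintro rfl
  have h1 : ∀ r : ℕ, [Fact r.Prime] → h.syl r ⊓ (⊤ : Subgroup G) ≤ ⊥ := fun r _ => by
    rw [inf_top_eq, hM.max _ (h.syl_inv r) (h.syl_ne_top r) bot_le]
  have := h.le_of_syl (isInvariant_top φ) h1
  exact hM.ne_top (top_le_iff.1 this)

theorem le_core_of_centralizes {H : Subgroup G} (hH : IsInvariant φ H) (hne : H ≠ ⊤) {w : ℕ}
    [Fact w.Prime] {S : Subgroup G} (hSH : S ≤ H) (hS : IsPGroup w S)
    (hc : ∀ v : ℕ, v.Prime → v ≠ w → S ≤ centralizer (pCoreOf v H : Set G)) :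
    S ≤ pCoreOf w H := by
  cases nonempty_fintype A
  obtain ⟨N, hNn, -, hNnil, hQnil⟩ := CfsgLib.Ward.exists_nilpotent_by_nilpotent h.comm h.exp
    h.card (Nat.card H) le_rfl (h.solv H hH hne) (restr φ H hH)
    (fun x hx => Subtype.ext (h.fpf x fun a => congrArg Subtype.val (hx a)))
  have h1 : S.subgroupOf H ≤ pCore w H := le_pCore_of_centralizes (N := N) hS.comap_subtype
    fun v hv hvw x hx y hy =>
      Subtype.ext (hc v hv hvw hx (y : G) ⟨y, hy, rfl⟩)
  have h2 := map_mono (f := H.subtype) h1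
  rwa [map_subgroupOf_eq_of_le hSH] at h2

theorem normalizer_eq {M : Subgroup G} (hM : IsMax φ M) {N : Subgroup G} (hNi : IsInvariant φ N)
    (hNM : N ≤ M) (hn : M ≤ normalizer (N : Set G)) (hN : N ≠ ⊥) :
    normalizer (N : Set G) = M :=
  hM.max _ hNi.normalizer
    (h.normalizer_ne_top hNi hN fun e => hM.ne_top (top_le_iff.1 (e ▸ hNM))) hn

theorem core_normalizer_eq {M : Subgroup G} (hM : IsMax φ M) {r : ℕ} (hr : pCoreOf r M ≠ ⊥) :
    normalizer (pCoreOf r M : Set G) = M :=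
  h.normalizer_eq hM (core_inv hM.inv r) (CfsgLib.LocalStructure.pCoreOf_le M)
    (CfsgLib.LocalStructure.le_normalizer_pCoreOf M) hr

theorem centralizer_core_le {M : Subgroup G} (hM : IsMax φ M) {r : ℕ} (hr : pCoreOf r M ≠ ⊥) :
    centralizer (pCoreOf r M : Set G) ≤ M := by
  refine le_trans (fun x hx => ?_) (h.core_normalizer_eq hM hr).le
  exact Subgroup.centralizer_le_normalizer _ hx

theorem exists_core_ne_bot {M : Subgroup G} (hM : IsMax φ M) :
    ∃ r : ℕ, r.Prime ∧ pCoreOf r M ≠ ⊥ := by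
  by_contra! hb
  refine h.max_ne_bot hM (le_bot_iff.1 (h.le_of_syl hM.inv fun w _ => ?_))
  rw [← hb w (Fact.out)]
  exact h.le_core_of_centralizes hM.inv hM.ne_top inf_le_right
    ((h.syl_pgroup w).to_le inf_le_left) fun v hv _ => by
      rw [hb v hv]
      intro x _ y hy
      rw [SetLike.mem_coe, mem_bot] at hy
      rw [hy, one_mul, mul_one]

/-- If only `O_r(M)` is nontrivial then it is the invariant Sylow subgroup. -/
theorem core_eq_syl {M : Subgroup G} (hM : IsMax φ M) {r : ℕ} [Fact r.Prime]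
    (hr : pCoreOf r M ≠ ⊥)
    (hs : ∀ v : ℕ, v.Prime → v ≠ r → pCoreOf v M = ⊥) : pCoreOf r M = h.syl r := by
  have hle : h.syl r ⊓ M ≤ pCoreOf r M :=
    h.le_core_of_centralizes hM.inv hM.ne_top inf_le_right
      ((h.syl_pgroup r).to_le inf_le_left) fun v hv hvr => by
        rw [hs v hv hvr]
        intro x _ y hy
        rw [SetLike.mem_coe, mem_bot] at hy
        rw [hy, one_mul, mul_one]
  have hRP : pCoreOf r M ≤ h.syl r :=
    h.le_syl (core_inv hM.inv r) (CfsgLib.LocalStructure.pCoreOf_isPGroup M)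
  by_contra hne
  haveI := (h.syl_pgroup r).isNilpotent
  have hlt : (pCoreOf r M).subgroupOf (h.syl r) < ⊤ := by
    rw [lt_top_iff_ne_top, Ne, subgroupOf_eq_top]
    exact fun e => hne (le_antisymm hRP e)
  obtain ⟨x, hxn, hx⟩ := SetLike.exists_of_lt (Group.normalizerCondition_of_isNilpotent _ hlt)
  rw [← subgroupOf_normalizer_eq hRP] at hxn
  have hxM : (x : G) ∈ M := (h.core_normalizer_eq hM hr).le hxn
  exact hx (hle ⟨x.2, hxM⟩)

theorem inf_core_eq_bot {M H : Subgroup G} (hM : IsMax φ M) {u : ℕ} [Fact u.Prime]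
    (hle : ∀ v : ℕ, v.Prime → v ≠ u → pCoreOf v M ≤ H) (hu : pCoreOf u M = ⊥) :
    pCoreOf u H ⊓ M = ⊥ := by
  refine le_bot_iff.1 (hu ▸ h.le_core_of_centralizes hM.inv hM.ne_top inf_le_right
    ((CfsgLib.LocalStructure.pCoreOf_isPGroup H).to_le inf_le_left) fun v hv hvu => ?_)
  haveI := Fact.mk hv
  exact le_centralizer_of_primes hvu.symm
    ((CfsgLib.LocalStructure.pCoreOf_isPGroup H).to_le inf_le_left)
    (CfsgLib.LocalStructure.pCoreOf_isPGroup M)
    (inf_le_right.trans (CfsgLib.LocalStructure.le_normalizer_pCoreOf M))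
    (le_normalizer_inf' ((hle v hv hvu).trans (CfsgLib.LocalStructure.le_normalizer_pCoreOf H))
      ((CfsgLib.LocalStructure.pCoreOf_le M).trans le_normalizer))

/-- The `P × Q` step: `O_w(M)` centralises `O_u(H)`. -/
theorem cores_commute {M H R : Subgroup G} {u w : ℕ} [Fact u.Prime] [Fact w.Prime]
    (huw : u ≠ w) (hR : IsPGroup u R) (hRY : R ≤ centralizer (pCoreOf w M : Set G))
    (hRH : R ≤ H) (hYH : pCoreOf w M ≤ H) (hCR : centralizer (R : Set G) ≤ M) :
    pCoreOf w M ≤ centralizer (pCoreOf u H : Set G) := by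
  refine CfsgLib.Coprime.le_centralizer_of_inf_centralizer_le hR ?_
    (CfsgLib.LocalStructure.pCoreOf_isPGroup H) hRY
    (hRH.trans (CfsgLib.LocalStructure.le_normalizer_pCoreOf H))
    (hYH.trans (CfsgLib.LocalStructure.le_normalizer_pCoreOf H)) ?_
  · exact Nat.Coprime.symm (((Fact.out : u.Prime).coprime_iff_not_dvd).2
      (not_dvd_of_isPGroup huw (CfsgLib.LocalStructure.pCoreOf_isPGroup M)))
  · exact le_centralizer_of_primes huw
      ((CfsgLib.LocalStructure.pCoreOf_isPGroup H).to_le inf_le_left)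
      (CfsgLib.LocalStructure.pCoreOf_isPGroup M)
      ((inf_le_right.trans hCR).trans (CfsgLib.LocalStructure.le_normalizer_pCoreOf M))
      (le_normalizer_inf' (hYH.trans (CfsgLib.LocalStructure.le_normalizer_pCoreOf H))
        (le_normalizer_centralizer_of_le (le_centralizer_comm hRY)))

/-- Bender's lemma. -/
theorem bender {M H : Subgroup G} (hM : IsMax φ M) (hH : IsMax φ H)
    (hle : ∀ v : ℕ, v.Prime → pCoreOf v M ≤ H)
    (hzero : ∀ v : ℕ, v.Prime → pCoreOf v M = ⊥ → pCoreOf v H = ⊥)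
    {r s : ℕ} (hr : r.Prime) (hs : s.Prime) (hrs : r ≠ s) (hr0 : pCoreOf r M ≠ ⊥)
    (hs0 : pCoreOf s M ≠ ⊥) : H = M := by
  have step : ∀ {M H : Subgroup G}, IsMax φ M → IsMax φ H →
      (∀ v : ℕ, v.Prime → pCoreOf v M ≤ H) →
      (∀ v : ℕ, v.Prime → pCoreOf v M = ⊥ → pCoreOf v H = ⊥) →
      (∀ u : ℕ, u.Prime → ∃ w : ℕ, w.Prime ∧ w ≠ u ∧ pCoreOf w M ≠ ⊥) →
      (∀ v : ℕ, v.Prime → pCoreOf v H ≤ M) ∧ ∀ v : ℕ, v.Prime → pCoreOf v M ≤ pCoreOf v H := by
    intro M H hM hH hle hzero htwo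
    have hcc : ∀ u w : ℕ, u.Prime → w.Prime → u ≠ w → pCoreOf u M ≠ ⊥ →
        pCoreOf w M ≤ centralizer (pCoreOf u H : Set G) := by
      intro u w hu hw huw hu0
      haveI := Fact.mk hu
      haveI := Fact.mk hw
      exact h.cores_commute huw (CfsgLib.LocalStructure.pCoreOf_isPGroup M)
        (le_centralizer_of_primes huw (CfsgLib.LocalStructure.pCoreOf_isPGroup M)
          (CfsgLib.LocalStructure.pCoreOf_isPGroup M)
          ((CfsgLib.LocalStructure.pCoreOf_le M).trans (CfsgLib.LocalStructure.le_normalizer_pCoreOf M))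
          ((CfsgLib.LocalStructure.pCoreOf_le M).trans (CfsgLib.LocalStructure.le_normalizer_pCoreOf M)))
        (hle u hu) (hle w hw) (h.centralizer_core_le hM hu0)
    refine ⟨fun u hu => ?_, fun w hw => ?_⟩
    · by_cases hu0 : pCoreOf u M = ⊥
      · rw [hzero u hu hu0]; exact bot_le
      · obtain ⟨w, hw, hwu, hw0⟩ := htwo u hu
        exact (le_centralizer_comm (hcc u w hu hw hwu.symm hu0)).trans
          (h.centralizer_core_le hM hw0)
    · haveI := Fact.mk hw
      refine h.le_core_of_centralizes hH.inv hH.ne_top (hle w hw)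
        (CfsgLib.LocalStructure.pCoreOf_isPGroup M) fun v hv hvw => ?_
      by_cases hv0 : pCoreOf v M = ⊥
      · rw [hzero v hv hv0]
        intro x _ y hy
        rw [SetLike.mem_coe, mem_bot] at hy
        rw [hy, one_mul, mul_one]
      · exact hcc v w hv hw hvw hv0
  have htwo : ∀ {K : Subgroup G}, pCoreOf r K ≠ ⊥ → pCoreOf s K ≠ ⊥ →
      ∀ u : ℕ, u.Prime → ∃ w : ℕ, w.Prime ∧ w ≠ u ∧ pCoreOf w K ≠ ⊥ := fun h1 h2 u _ => by
    by_cases hu : u = r
    · exact ⟨s, hs, by omega, h2⟩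
    · exact ⟨r, hr, Ne.symm hu, h1⟩
  obtain ⟨h1, h2⟩ := step hM hH hle hzero (htwo hr0 hs0)
  have hr' : pCoreOf r H ≠ ⊥ := fun e => hr0 (le_bot_iff.1 (e ▸ h2 r hr))
  have hs' : pCoreOf s H ≠ ⊥ := fun e => hs0 (le_bot_iff.1 (e ▸ h2 s hs))
  obtain ⟨-, h3⟩ := step hH hM h1 (fun v hv e => le_bot_iff.1 (e ▸ h2 v hv)) (htwo hr' hs')
  rw [← h.core_normalizer_eq hH hr', le_antisymm (h3 r hr) (h2 r hr), h.core_normalizer_eq hM hr0]

/-- A central subgroup on one line, outside a normal subgroup containing the Fitting subgroup. -/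
theorem exists_central {M K : Subgroup G} (hM : IsMax φ M) (hKM : K ≤ M)
    (hKn : M ≤ normalizer (K : Set G)) (hKi : IsInvariant φ K)
    (hcores : ∀ w : ℕ, w.Prime → pCoreOf w M ≤ K) {v : ℕ} [Fact v.Prime]
    (hv : ¬ h.syl v ⊓ M ≤ K) :
    ∃ a : A, a ≠ 1 ∧ ∃ T : Subgroup G, T ≤ h.syl v ⊓ M ∧ T ≤ fixedBy φ a ∧ IsInvariant φ T ∧
      ¬ T ≤ K ∧ ∀ t ∈ T, ∀ m ∈ M, ⁅m, t⁆ ∈ K := by
  classical
  cases nonempty_fintype A
  obtain ⟨N, hNn, -, hNnil, hQnil⟩ := CfsgLib.Ward.exists_nilpotent_by_nilpotent h.comm h.exp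
    h.card (Nat.card M) le_rfl (h.solv M hM.inv hM.ne_top) (restr φ M hM.inv)
    (fun x hx => Subtype.ext (h.fpf x fun a => congrArg Subtype.val (hx a)))
  haveI hK' : (K.subgroupOf M).Normal := (normal_subgroupOf_iff_le_normalizer hKM).2 hKn
  have hNK : N ≤ K.subgroupOf M := le_of_forall_pCore fun w _ x hx =>
    hcores w (Fact.out) ⟨x, hx.1, rfl⟩
  haveI : Group.IsNilpotent (M ⧸ K.subgroupOf M) :=
    Group.nilpotent_of_surjective (QuotientGroup.map N (K.subgroupOf M) (MonoidHom.id M) hNK)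
      (QuotientGroup.map_surjective_of_surjective N (K.subgroupOf M) (MonoidHom.id M)
        (QuotientGroup.mk_surjective) _)
  set π := QuotientGroup.mk' (K.subgroupOf M) with hπ
  let S : Sylow v M := Sylow.ofCard ((h.syl v ⊓ M).subgroupOf M) (by
    rw [show Nat.card ↥((h.syl v ⊓ M).subgroupOf M) = Nat.card ↥(h.syl v ⊓ M) from
      Nat.card_congr (subgroupOfEquivOfLe inf_le_right).toEquiv]
    exact h.card_syl_inf v hM.inv)
  let S' : Sylow v (M ⧸ K.subgroupOf M) := S.mapSurjective (QuotientGroup.mk'_surjective _)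
  have hS'0 : (S' : Subgroup (M ⧸ K.subgroupOf M)) ≠ ⊥ := by
    intro e
    apply hv
    intro x hx
    have h1 : π ⟨x, hx.2⟩ ∈ (S' : Subgroup (M ⧸ K.subgroupOf M)) :=
      ⟨⟨x, hx.2⟩, (hx : (⟨x, hx.2⟩ : M) ∈ (h.syl v ⊓ M).subgroupOf M), rfl⟩
    rw [e, mem_bot] at h1
    exact ((QuotientGroup.eq_one_iff (N := K.subgroupOf M) _).1 h1 :)
  haveI : (S' : Subgroup (M ⧸ K.subgroupOf M)).Normal := inferInstance
  have hz := CfsgLib.Solvable.inf_center_ne_bot hS'0
  rw [ne_eq, ← le_bot_iff, SetLike.not_le_iff_exists] at hz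
  obtain ⟨z, ⟨⟨s, hs, rfl⟩, hzc⟩, hz1⟩ := hz
  set Z : Subgroup G := ((center (M ⧸ K.subgroupOf M)).comap π).map M.subtype with hZ
  have hmem : ∀ x : G, x ∈ Z ↔ x ∈ M ∧ ∀ m ∈ M, ⁅m, x⁆ ∈ K := by
    intro x
    constructor
    · rintro ⟨y, hy, rfl⟩
      refine ⟨y.2, fun m hm => ?_⟩
      have h1 : π ⁅(⟨m, hm⟩ : M), y⁆ = 1 := by
        rw [map_commutatorElement, commutatorElement_eq_one_iff_mul_comm]
        exact mem_center_iff.1 hy _
      exact ((QuotientGroup.eq_one_iff (N := K.subgroupOf M) _).1 h1 :)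
    · rintro ⟨hxM, hx⟩
      refine ⟨⟨x, hxM⟩, ?_, rfl⟩
      rw [SetLike.mem_coe, mem_comap, mem_center_iff]
      intro g
      obtain ⟨m, rfl⟩ := QuotientGroup.mk'_surjective _ g
      rw [← commutatorElement_eq_one_iff_mul_comm]
      show ⁅π m, π ⟨x, hxM⟩⁆ = 1
      rw [← map_commutatorElement]
      exact (QuotientGroup.eq_one_iff _).2 (hx m m.2)
  have hZi : IsInvariant φ Z := by
    intro a x hx
    rw [hmem] at hx ⊢
    refine ⟨hM.inv a x hx.1, fun m hm => ?_⟩
    have h1 := hKi a _ (hx.2 _ (hM.inv.symm_mem a hm))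
    rwa [map_commutatorElement, MulEquiv.apply_symm_apply] at h1
  set Y := h.syl v ⊓ M ⊓ Z with hY
  have hYi : IsInvariant φ Y := ((h.syl_inv v).inf hM.inv).inf hZi
  have hYK : ¬ Y ≤ K := by
    intro hle
    apply hz1
    rw [mem_bot]
    exact (QuotientGroup.eq_one_iff _).2 (hle ⟨(hs : (s : G) ∈ h.syl v ⊓ M), s, hzc, rfl⟩)
  obtain ⟨a, ha, x, hxY, hxa, hxK⟩ : ∃ a : A, a ≠ 1 ∧ ∃ x ∈ Y, x ∈ fixedBy φ a ∧ x ∉ K := by
    by_contra! hc
    exact hYK (h.le_of_fixed hYi hc)
  exact ⟨a, ha, Y ⊓ fixedBy φ a, inf_le_left.trans inf_le_left, inf_le_right,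
    hYi.inf (h.inv_fix a), fun hle => hxK (hle ⟨hxY, hxa⟩), fun t ht => ((hmem t).1 ht.1.2).2⟩

end Hyp

end CfsgLib.FpfRankTwo73
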