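import Mathlib
import Cfsg.Agent.FpfRankTwo73.Local

/-!
# A maximal invariant subgroup containing the fixed points of all lines but one meets the last trivially
-/

set_option autoImplicit false

namespace CfsgLib.FpfRankTwo73

open Subgroup CfsgLib.SolvCrit CfsgLib.Ward

universe u v

variable {G : Type u} {A : Type v} [Group G] [Finite G] [Group A] [Finite A]
  {φ : A →* MulAut G} {q : ℕ} [hq : Fact q.Prime]

/-- The relative index of `M` is the same in `C` and in `P ⊇ C` when `P ⊆ C M`. -/
theorem relIndex_eq_of_product {M C P : Subgroup G} (hCP : C ≤ P)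
    (hdec : ∀ x ∈ P, ∃ c ∈ C, c⁻¹ * x ∈ M) : M.relIndex C = M.relIndex P := by
  let f : C ⧸ M.subgroupOf C → P ⧸ M.subgroupOf P :=
    Quotient.map' (Subgroup.inclusion hCP) fun x y hxy => by
      rw [QuotientGroup.leftRel_apply] at hxy ⊢
      exact hxy
  have hf : Function.Bijective f := by
    refine ⟨?_, ?_⟩
    · intro x y hxy
      induction x using QuotientGroup.induction_on with
      | H x =>
        induction y using QuotientGroup.induction_on with
        | H y => exact QuotientGroup.eq.2 ((QuotientGroup.eq.1 hxy :) : _)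
    · intro y
      induction y using QuotientGroup.induction_on with
      | H y =>
        obtain ⟨c, hc, hcy⟩ := hdec y y.2
        exact ⟨((⟨c, hc⟩ : C) : C ⧸ M.subgroupOf C), QuotientGroup.eq.2 hcy⟩
  exact Nat.card_congr (Equiv.ofBijective f hf)

theorem card_inf_mul_relIndex (M X : Subgroup G) :
    Nat.card ↥(M ⊓ X) * M.relIndex X = Nat.card X := by
  rw [← Subgroup.inf_relIndex_right M X]
  exact CfsgLib.PLocal.card_mul_relIndex inf_le_right

namespace Hyp

variable (h : Hyp φ q)
include h

theorem exists_mul_fix {a : A} {P : Subgroup G} {r : ℕ} [Fact r.Prime] (hP : IsPGroup r P)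
    (hPi : IsInvariant φ P) :
    ∀ (n : ℕ) (U : Subgroup G), U ≤ P → Nat.card P - Nat.card U ≤ n → IsInvariant φ U →
      (∀ c : A, c ∉ zpowers a → P ⊓ fixedBy φ c ≤ U) →
      ∀ x ∈ P, ∃ u ∈ U, ∃ c ∈ P ⊓ fixedBy φ a, x = u * c := by
  intro n
  induction n with
  | zero =>
    intro U hUP hn _ _ x hx
    have hU : U = P := eq_of_le_of_card_ge hUP (by omega)
    exact ⟨x, hU ▸ hx, 1, one_mem _, (mul_one x).symm⟩
  | succ n ih =>
    intro U hUP hn hUi hfix x hx
    by_cases hU : P ≤ U
    · exact ⟨x, hU hx, 1, one_mem _, (mul_one x).symm⟩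
    set N := normalizer (U : Set G) ⊓ P with hN
    have hUN : U < N := by
      haveI := hP.isNilpotent
      have hlt : U.subgroupOf P < ⊤ := by
        rw [lt_top_iff_ne_top, Ne, subgroupOf_eq_top]
        exact hU
      obtain ⟨y, hyn, hy⟩ := SetLike.exists_of_lt
        (Group.normalizerCondition_of_isNilpotent _ hlt)
      rw [← subgroupOf_normalizer_eq hUP] at hyn
      exact lt_of_le_of_ne (le_inf le_normalizer hUP) fun e => hy (by
        show (y : G) ∈ U
        rw [e]; exact ⟨hyn, y.2⟩)
    have hNi : IsInvariant φ N := hUi.normalizer.inf hPi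
    have hNW : N ≤ U ⊔ N ⊓ fixedBy φ a := by
      refine h.le_of_fixed hNi fun c hc y hy hyc => ?_
      by_cases hca : c ∈ zpowers a
      · rw [h.fix_eq hca hc] at hyc
        exact mem_sup_right ⟨hy, hyc⟩
      · exact mem_sup_left (hfix c hca ⟨hy.2, hyc⟩)
    obtain ⟨m, hm, c, hc, rfl⟩ := ih N inf_le_right (by
      have h1 : Nat.card U < Nat.card N := (card_le_of_le hUN.le).lt_of_ne
        fun e => hUN.ne (eq_of_le_of_card_ge hUN.le e.ge)
      omega) hNi (fun c hc => (hfix c hc).trans hUN.le) x hx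
    obtain ⟨u, hu, d, hd, hud⟩ := CfsgLib.Coprime.exists_mul_of_mem_sup
      ((inf_le_left.trans inf_le_left) : N ⊓ fixedBy φ a ≤ normalizer (U : Set G)) (hNW hm)
    exact ⟨u, hu, d * c, mul_mem ⟨hd.1.2, hd.2⟩ hc, by rw [← mul_assoc, hud]⟩

theorem inter_fix_eq_bot {M : Subgroup G} (hM : IsMax φ M) {a : A} (ha : a ≠ 1)
    (hc : ∀ c : A, c ∉ zpowers a → fixedBy φ c ≤ M) : M ⊓ fixedBy φ a = ⊥ := by
  set C := fixedBy φ a with hC
  set K := M ⊓ C with hK
  have hKi : IsInvariant φ K := hM.inv.inf (h.inv_fix a)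
  have hcard : Nat.card G * Nat.card K = Nat.card M * Nat.card C := by
    refine Nat.eq_of_factorization_eq (Nat.mul_ne_zero Nat.card_pos.ne' Nat.card_pos.ne')
      (Nat.mul_ne_zero Nat.card_pos.ne' Nat.card_pos.ne') fun r => ?_
    by_cases hr : r.Prime
    swap
    · simp [Nat.factorization_eq_zero_of_not_prime _ hr]
    haveI := Fact.mk hr
    set P := h.syl r with hP
    have hdec : ∀ x ∈ P, ∃ c ∈ P ⊓ C, c⁻¹ * x ∈ M := by
      intro x hx
      obtain ⟨u, hu, c, hc', hxuc⟩ := h.exists_mul_fix (h.syl_pgroup r) (h.syl_inv r) _ (P ⊓ M)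
        inf_le_left le_rfl ((h.syl_inv r).inf hM.inv)
        (fun c hca => le_inf inf_le_left (inf_le_right.trans (hc c hca))) x⁻¹ (inv_mem hx)
      refine ⟨c⁻¹, inv_mem hc', ?_⟩
      rw [inv_inv, show c * x = u⁻¹ * (u * c) * x by group, ← hxuc, mul_assoc, inv_mul_cancel,
        mul_one]
      exact inv_mem hu.2
    have h1 := card_inf_mul_relIndex M P
    have h2 := card_inf_mul_relIndex M (P ⊓ C)
    rw [relIndex_eq_of_product inf_le_left hdec, show M ⊓ (P ⊓ C) = P ⊓ K by
      rw [hK, inf_left_comm]] at h2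
    rw [inf_comm M P] at h1
    have h3 : Nat.card ↥P * Nat.card ↥(P ⊓ K) = Nat.card ↥(P ⊓ M) * Nat.card ↥(P ⊓ C) := by
      rw [← h1, ← h2]
      ring
    have h4 : Nat.card ↥P = r ^ (Nat.card G).factorization r := by
      have := h.card_syl_inf r (isInvariant_top φ)
      rwa [inf_top_eq, card_top] at this
    rw [h4, h.card_syl_inf r hKi, h.card_syl_inf r hM.inv, h.card_syl_inf r (h.inv_fix a),
      ← pow_add, ← pow_add] at h3
    rw [Nat.factorization_mul Nat.card_pos.ne' Nat.card_pos.ne',
      Nat.factorization_mul Nat.card_pos.ne' Nat.card_pos.ne', Finsupp.add_apply, Finsupp.add_apply]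
    exact Nat.pow_right_injective hr.two_le h3
  have hidx : M.relIndex C = M.index := by
    have h1 := card_inf_mul_relIndex M C
    have h2 := M.card_mul_index
    refine Nat.eq_of_mul_eq_mul_left (Nat.mul_pos Nat.card_pos Nat.card_pos :
      0 < Nat.card M * Nat.card K) ?_
    calc Nat.card M * Nat.card K * M.relIndex C
        = Nat.card M * (Nat.card ↥(M ⊓ C) * M.relIndex C) := by rw [hK]; ring
      _ = Nat.card G * Nat.card K := by rw [h1, hcard]
      _ = Nat.card M * M.index * Nat.card K := by rw [h2]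
      _ = Nat.card M * Nat.card K * M.index := by ring
  let f : C ⧸ M.subgroupOf C → G ⧸ M :=
    Quotient.map' Subtype.val fun x y hxy => by
      rw [QuotientGroup.leftRel_apply] at hxy ⊢
      exact hxy
  have hf : Function.Surjective f := by
    refine (Nat.bijective_iff_injective_and_card _ |>.2 ⟨?_, hidx⟩).2
    intro x y hxy
    induction x using QuotientGroup.induction_on with
    | H x =>
      induction y using QuotientGroup.induction_on with
      | H y => exact QuotientGroup.eq.2 ((QuotientGroup.eq.1 hxy :) : _)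
  have hle : normalClosure (K : Set G) ≤ M := by
    refine (Subgroup.closure_le _).2 ?_
    intro y hy
    obtain ⟨k, hk, hky⟩ := Group.mem_conjugatesOfSet_iff.1 hy
    obtain ⟨g, rfl⟩ := isConj_iff.1 hky
    obtain ⟨c, hcg⟩ := hf ((g⁻¹ : G) : G ⧸ M)
    induction c using QuotientGroup.induction_on with
    | H c =>
      have h1 : (c : G)⁻¹ * g⁻¹ ∈ M := QuotientGroup.eq.1 hcg
      show g * k * g⁻¹ ∈ M
      have hck : (c : G)⁻¹ * k * (c : G) = k := by
        rw [mul_assoc, h.fix_comm ha hk.2 c.2, inv_mul_cancel_left]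
      rw [show g * k * g⁻¹ = ((c : G)⁻¹ * g⁻¹)⁻¹ * ((c : G)⁻¹ * k * c) * ((c : G)⁻¹ * g⁻¹) by group,
        hck]
      exact mul_mem (mul_mem (inv_mem h1) hk.1) h1
  have hNi : IsInvariant φ (normalClosure (K : Set G)) := fun b x hx => by
    have h1 : normalClosure (K : Set G)
        ≤ (normalClosure (K : Set G)).comap (φ b : MulAut G).toMonoidHom := by
      haveI : ((normalClosure (K : Set G)).comap (φ b : MulAut G).toMonoidHom).Normal :=
        inferInstance
      exact normalClosure_le_normal fun y hy => subset_normalClosure (hKi b y hy)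
    exact h1 hx
  rcases h.simple _ normalClosure_normal hNi with h1 | h1
  · exact le_bot_iff.1 (h1 ▸ subset_normalClosure)
  · exact absurd (top_le_iff.1 (h1 ▸ hle)) hM.ne_top

end Hyp

end CfsgLib.FpfRankTwo73
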