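import Mathlib
import Cfsg.Agent.FpfRankTwo73.Factor
import Cfsg.Agent.Coprime.Abelian

/-!
# The centre of `O_r(M)` is centralised by the elements of order prime to `r`
-/

set_option autoImplicit false

namespace CfsgLib.FpfRankTwo73

open Subgroup CfsgLib.SolvCrit CfsgLib.Ward
open Cfsg (pCoreOf)
open scoped commutatorElement

universe u v

variable {G : Type u} {A : Type v} [Group G] [Finite G] [Group A] [Finite A]
  {φ : A →* MulAut G} {q : ℕ} [hq : Fact q.Prime]

namespace Hyp

variable (h : Hyp φ q)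
include h

theorem centralizer_eq {M X : Subgroup G} (hM : IsMax φ M) (hXi : IsInvariant φ X) (hX : X ≠ ⊥)
    (hMX : M ≤ centralizer (X : Set G)) : centralizer (X : Set G) = M :=
  hM.max _ hXi.centralizer (h.centralizer_ne_top hX) hMX

theorem fix_inf_ne_bot {a b : A} (ha : a ≠ 1) (hb : b ∉ zpowers a) {r : ℕ} [Fact r.Prime]
    {W T : Subgroup G} (hW : IsPGroup r W) (hWi : IsInvariant φ W)
    (hTW : T ≤ normalizer (W : Set G)) (hTi : IsInvariant φ T) (hTa : T ≤ fixedBy φ a)
    (hTr : ¬ r ∣ Nat.card T) (hgen : W ≤ ⁅W, T⁆) (hW0 : W ≠ ⊥) : W ⊓ fixedBy φ b ≠ ⊥ := fun e =>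
  hW0 (le_bot_iff.1 (h.closure_le ha hb hW hWi hTW hTi hTa hTr hgen
    (by rw [normalizer_eq_top_iff.2 (inferInstance : (⊥ : Subgroup G).Normal)]; exact le_top)
    (isInvariant_bot φ) e.le))

theorem le_centralizer_of_fix {a : A} (ha : a ≠ 1) {T E : Subgroup G} (hT : T ≤ fixedBy φ a)
    (hE : E ≤ fixedBy φ a) : T ≤ centralizer (E : Set G) := fun _ ht _ hy =>
  h.fix_comm ha (hE hy) (hT ht)

/-- The killing lemma for an abelian `W = [W,T]`. -/
theorem eq_bot_of_abelian {M W T D : Subgroup G} {a : A} (ha : a ≠ 1) {r u : ℕ} [Fact r.Prime]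
    [Fact u.Prime] (hur : u ≠ r) (hW : IsPGroup r W) (hWi : IsInvariant φ W)
    (hWab : W ≤ centralizer (W : Set G)) (hW0 : W ≠ ⊥) (hCW : centralizer (W : Set G) ≤ M)
    (hTW : T ≤ normalizer (W : Set G)) (hTi : IsInvariant φ T) (hTa : T ≤ fixedBy φ a)
    (hTr : ¬ r ∣ Nat.card T) (hgen : W ≤ ⁅W, T⁆)
    (hD : IsPGroup u D) (hDi : IsInvariant φ D) (hWD : W ≤ normalizer (D : Set G))
    (hDM : D ⊓ M = ⊥) : D = ⊥ := by
  have hWu : ∀ c : A, ¬ u ∣ Nat.card ↥(W ⊓ fixedBy φ c) := fun c =>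
    not_dvd_of_isPGroup hur (hW.to_le inf_le_left)
  -- fixed points of `a` centralised by some `W ⊓ Fix c`
  have h1 : ∀ c : A, c ∉ zpowers a →
      D ⊓ fixedBy φ a ⊓ centralizer ((W ⊓ fixedBy φ c : Subgroup G) : Set G) = ⊥ := by
    intro c hc
    set E := D ⊓ fixedBy φ a ⊓ centralizer ((W ⊓ fixedBy φ c : Subgroup G) : Set G) with hE
    have hWE : W ≤ centralizer (E : Set G) :=
      h.closure_le ha hc hW hWi hTW hTi hTa hTr hgen
        ((h.le_centralizer_of_fix ha hTa (inf_le_left.trans inf_le_right)).trans le_normalizer)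
        ((hDi.inf (h.inv_fix a)).inf (hWi.inf (h.inv_fix c)).centralizer).centralizer
        (le_centralizer_comm inf_le_right)
    exact le_bot_iff.1 (hDM ▸ le_inf (inf_le_left.trans inf_le_left)
      ((le_centralizer_comm hWE).trans hCW))
  obtain ⟨b, hb⟩ := h.exists_notMem (a := a)
  set d := b * a with hd_def
  have hd : d ∉ zpowers a := fun e => hb (by
    have := mul_mem e (inv_mem (mem_zpowers a))
    rwa [hd_def, mul_inv_cancel_right] at this)
  have hdb : d ∉ zpowers b := fun e => notMem_symm h.exp ha hb (by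
    have := mul_mem (inv_mem (mem_zpowers b)) e
    rwa [hd_def, inv_mul_cancel_left] at this)
  have hb1 := ne_one_of_notMem (h := h) hb
  have hd1 := ne_one_of_notMem (h := h) hd
  set Wb := W ⊓ fixedBy φ b with hWb
  set Wd := W ⊓ fixedBy φ d with hWd
  set D0 := D ⊓ centralizer (Wb : Set G) with hD0
  have hWbi : IsInvariant φ Wb := hWi.inf (h.inv_fix b)
  have hWdi : IsInvariant φ Wd := hWi.inf (h.inv_fix d)
  have hWdD0 : Wd ≤ centralizer (D0 : Set G) :=
    h.centralizes hd1 (notMem_symm h.exp ha hd) (hD.to_le inf_le_left)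
      (hDi.inf hWbi.centralizer)
      (le_normalizer_inf' (inf_le_left.trans hWD)
        (le_normalizer_centralizer_of_le (inf_le_left.trans
          (hWab.trans (centralizer_le inf_le_left)))))
      hWdi inf_le_right (hWu d) (by
        refine le_trans (le_of_eq_of_le ?_ bot_le) (le_refl _)
        rw [hD0, inf_right_comm]
        exact h1 b hb)
  have hWdD : Wd ≤ centralizer (D : Set G) :=
    h.centralizes hd1 (notMem_symm h.exp hb1 hdb) hD hDi (inf_le_left.trans hWD) hWdi inf_le_right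
      (hWu d) ((le_inf inf_le_left ((inf_le_right.trans
        (h.le_centralizer_of_fix hb1 le_rfl inf_le_right)))).trans (le_centralizer_comm hWdD0))
  have hEa : D ⊓ fixedBy φ a = ⊥ := by
    rw [← h1 d hd, eq_comm, inf_eq_left]
    exact inf_le_left.trans (le_centralizer_comm hWdD)
  have hWa : W ⊓ fixedBy φ a = ⊥ := by
    haveI : IsMulCommutative W := ⟨⟨fun x y => Subtype.ext (hWab y.2 x x.2)⟩⟩
    refine le_bot_iff.1 ((le_inf (le_inf inf_le_left ?_) (inf_le_left.trans hgen)).trans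
      (CfsgLib.Coprime.inf_centralizer_inf_commutator_eq_bot hTW (coprime_of_not_dvd hW hTr)).le)
    exact h.le_centralizer_of_fix ha inf_le_right hTa
  have hWD' : W ≤ centralizer (D : Set G) := by
    refine h.le_of_fixed hWi fun c hc x hxW hxc => ?_
    by_cases hca : c ∈ zpowers a
    · rw [h.fix_eq hca hc] at hxc
      have : x ∈ W ⊓ fixedBy φ a := ⟨hxW, hxc⟩
      rw [hWa, mem_bot] at this
      rw [this]; exact one_mem _
    · exact h.centralizes hc (notMem_symm h.exp ha hca) hD hDi (inf_le_left.trans hWD)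
        (hWi.inf (h.inv_fix c)) inf_le_right (hWu c) (hEa ▸ bot_le) ⟨hxW, hxc⟩
  exact le_bot_iff.1 (hDM ▸ le_inf le_rfl ((le_centralizer_comm hWD').trans hCW))

/-- Elements of order prime to `r` centralise the centre of `O_r(M)`. -/
theorem centralizes_centre {M : Subgroup G} (hM : IsMax φ M) {r v : ℕ} [Fact r.Prime] [Fact v.Prime]
    (hvr : v ≠ r) : h.syl v ⊓ M ≤
      centralizer ((pCoreOf r M ⊓ centralizer (pCoreOf r M : Set G) : Subgroup G) : Set G) := by
  set R0 := pCoreOf r M with hR0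
  set Z := R0 ⊓ centralizer (R0 : Set G) with hZ
  by_contra hv
  have hMR : M ≤ normalizer (R0 : Set G) := CfsgLib.LocalStructure.le_normalizer_pCoreOf M
  have hR0i : IsInvariant φ R0 := core_inv hM.inv r
  have hR0M : R0 ≤ M := CfsgLib.LocalStructure.pCoreOf_le M
  have hMZ : M ≤ normalizer (Z : Set G) := le_normalizer_inf' hMR (le_normalizer_centralizer' hMR)
  have hZi : IsInvariant φ Z := hR0i.inf hR0i.centralizer
  set K := M ⊓ centralizer (Z : Set G) with hK
  have hR0Z : R0 ≤ centralizer (Z : Set G) := le_centralizer_comm inf_le_right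
  have hcores : ∀ w : ℕ, w.Prime → pCoreOf w M ≤ K := by
    intro w hw
    refine le_inf (CfsgLib.LocalStructure.pCoreOf_le M) ?_
    by_cases hwr : w = r
    · subst hwr; exact hR0Z
    · haveI := Fact.mk hw
      exact (le_centralizer_of_primes hwr (CfsgLib.LocalStructure.pCoreOf_isPGroup M)
        (CfsgLib.LocalStructure.pCoreOf_isPGroup M)
        ((CfsgLib.LocalStructure.pCoreOf_le M).trans hMR)
        (hR0M.trans (CfsgLib.LocalStructure.le_normalizer_pCoreOf M))).trans
          (centralizer_le inf_le_left)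
  obtain ⟨a, ha, T, hTS, hTa, hTi, hTK, hTc⟩ := h.exists_central (v := v) hM inf_le_left
    (le_normalizer_inf' le_normalizer (le_normalizer_centralizer' hMZ)) (hM.inv.inf hZi.centralizer)
    hcores (fun e => hv (e.trans inf_le_right))
  have hTM : T ≤ M := hTS.trans inf_le_right
  have hTr : ¬ r ∣ Nat.card T :=
    not_dvd_of_isPGroup hvr.symm ((h.syl_pgroup v).to_le (hTS.trans inf_le_left))
  have hTZ : T ≤ normalizer (Z : Set G) := hTM.trans hMZ
  have hZr : IsPGroup r Z := (CfsgLib.LocalStructure.pCoreOf_isPGroup M).to_le inf_le_left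
  set W := ⁅Z, T⁆ with hW
  have hWZ : W ≤ Z := CfsgLib.Coprime.commutator_le_of_le_normalizer hTZ
  have hWi : IsInvariant φ W := IsInvariant.commutator hZi hTi
  have hWM : W ≤ M := hWZ.trans (inf_le_left.trans hR0M)
  have hWn : M ≤ normalizer (W : Set G) := by
    refine le_normalizer_of_conj_mem fun m hm x hx => ?_
    have h1 : W ≤ W.comap (MulAut.conj m).toMonoidHom := by
      rw [hW, commutator_le]
      intro z hz t ht
      show m * ⁅z, t⁆ * m⁻¹ ∈ W
      have hk : ⁅m, t⁆ ∈ centralizer (Z : Set G) := (hTc t ht m hm).2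
      have hz' : m * z * m⁻¹ ∈ Z := (mem_normalizer_iff.1 (hMZ hm) z).1 hz
      have hw : ⁅m * z * m⁻¹, t⁆ ∈ W := commutator_mem_commutator hz' ht
      set k := ⁅m, t⁆ with hk'
      set z' := m * z * m⁻¹ with hz''
      have e1 : k * z' = z' * k := (hk z' hz').symm
      have e2 : k * ⁅z', t⁆ = ⁅z', t⁆ * k := (hk _ (hWZ hw)).symm
      have e3 : m * ⁅z, t⁆ * m⁻¹ = (z' * k) * (t * z'⁻¹ * t⁻¹ * k⁻¹) := by
        rw [hk', hz'']
        simp only [commutatorElement_def]
        group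
      rw [e3, ← e1, show k * z' * (t * z'⁻¹ * t⁻¹ * k⁻¹) = k * ⁅z', t⁆ * k⁻¹ by
        rw [commutatorElement_def]; group, e2, mul_inv_cancel_right]
      exact hw
    exact h1 hx
  have hW0 : W ≠ ⊥ := fun e => hTK (le_inf hTM (le_centralizer_comm
    (commutator_eq_bot_iff_le_centralizer.1 e)))
  have hgen : W ≤ ⁅W, T⁆ :=
    (CfsgLib.Coprime.commutator_commutator_eq hTZ (coprime_of_not_dvd hZr hTr)).ge
  have hWab : W ≤ centralizer (W : Set G) :=
    (hWZ.trans inf_le_right).trans (centralizer_le (hWZ.trans inf_le_left))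
  have hWr : IsPGroup r W := hZr.to_le hWZ
  have hr0 : R0 ≠ ⊥ := fun e => hW0 (le_bot_iff.1 (e ▸ hWZ.trans inf_le_left))
  have hCW : centralizer (W : Set G) ≤ M :=
    (Subgroup.centralizer_le_normalizer _).trans (h.normalizer_eq hM hWi hWM hWn hW0).le
  have hfix : ∀ b : A, b ∉ zpowers a → fixedBy φ b ≤ M := by
    intro b hb
    set Wb := W ⊓ fixedBy φ b with hWb
    have hWb0 : Wb ≠ ⊥ :=
      h.fix_inf_ne_bot ha hb hWr hWi (hTM.trans hWn) hTi hTa hTr hgen hW0
    obtain ⟨H, hH, hCH⟩ := h.exists_max (hWi.inf (h.inv_fix b)).centralizer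
      (h.centralizer_ne_top hWb0)
    suffices hHM : H = M by
      rw [← hHM]
      exact (h.le_centralizer_of_fix (ne_one_of_notMem (h := h) hb) le_rfl inf_le_right).trans hCH
    have hle : ∀ w : ℕ, w.Prime → pCoreOf w M ≤ H := fun w hw =>
      ((hcores w hw).trans inf_le_right).trans
        ((centralizer_le (inf_le_left.trans hWZ : Wb ≤ Z)).trans hCH)
    have hWH : W ≤ H := hWab.trans ((centralizer_le (inf_le_left : Wb ≤ W)).trans hCH)
    have hzero : ∀ u : ℕ, u.Prime → pCoreOf u M = ⊥ → pCoreOf u H = ⊥ := by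
      intro u hu hu0
      haveI := Fact.mk hu
      have hur : u ≠ r := fun e => hr0 (by subst e; exact hu0)
      exact h.eq_bot_of_abelian ha hur hWr hWi hWab hW0 hCW (hTM.trans hWn) hTi hTa hTr hgen
        (CfsgLib.LocalStructure.pCoreOf_isPGroup H) (core_inv hH.inv u)
        (hWH.trans (CfsgLib.LocalStructure.le_normalizer_pCoreOf H))
        (h.inf_core_eq_bot hM (fun w hw _ => hle w hw) hu0)
    by_cases htwo : ∃ s : ℕ, s.Prime ∧ s ≠ r ∧ pCoreOf s M ≠ ⊥
    · obtain ⟨s, hs, hsr, hs0⟩ := htwo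
      exact h.bender hM hH hle hzero (Fact.out : r.Prime) hs hsr.symm hr0 hs0
    · push Not at htwo
      have hH0 : ∀ v : ℕ, v.Prime → v ≠ r → pCoreOf v H = ⊥ := fun v hv hvr =>
        hzero v hv (htwo v hv hvr)
      obtain ⟨w, hw, hw0⟩ := h.exists_core_ne_bot hH
      have hwr : w = r := by_contra fun e => hw0 (hH0 w hw e)
      subst hwr
      rw [← h.core_normalizer_eq hH hw0, h.core_eq_syl hH hw0 hH0, ← h.core_eq_syl hM hr0 htwo]
      exact h.core_normalizer_eq hM hr0
  have hbot := h.inter_fix_eq_bot hM ha hfix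
  exact hTK ((le_inf hTM hTa).trans (hbot.le.trans bot_le))

/-- The central part of `O_r(M)`. -/
def z0 (M : Subgroup G) (r : ℕ) [Fact r.Prime] : Subgroup G :=
  pCoreOf r M ⊓ centralizer ((h.syl r ⊓ M : Subgroup G) : Set G)

theorem core_le_syl_inf {M : Subgroup G} (hM : IsInvariant φ M) (r : ℕ) [Fact r.Prime] :
    pCoreOf r M ≤ h.syl r ⊓ M :=
  le_inf (h.le_syl (core_inv hM r) (CfsgLib.LocalStructure.pCoreOf_isPGroup M))
    (CfsgLib.LocalStructure.pCoreOf_le M)

theorem z0_inv {M : Subgroup G} (hM : IsInvariant φ M) (r : ℕ) [Fact r.Prime] :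
    IsInvariant φ (h.z0 M r) := (core_inv hM r).inf ((h.syl_inv r).inf hM).centralizer

theorem z0_le (M : Subgroup G) (r : ℕ) [Fact r.Prime] : h.z0 M r ≤ M :=
  inf_le_left.trans (CfsgLib.LocalStructure.pCoreOf_le M)

theorem z0_isPGroup (M : Subgroup G) (r : ℕ) [Fact r.Prime] : IsPGroup r (h.z0 M r) :=
  (CfsgLib.LocalStructure.pCoreOf_isPGroup M).to_le inf_le_left

theorem le_centralizer_z0 {M : Subgroup G} (hM : IsMax φ M) (r : ℕ) [Fact r.Prime] :
    M ≤ centralizer (h.z0 M r : Set G) := by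
  refine h.le_of_syl hM.inv fun w _ => ?_
  by_cases hwr : w = r
  · subst hwr
    exact le_centralizer_comm inf_le_right
  · refine (h.centralizes_centre (r := r) hM hwr).trans (centralizer_le ?_)
    exact le_inf inf_le_left
      (inf_le_right.trans (centralizer_le (h.core_le_syl_inf hM.inv r)))

theorem z0_ne_bot {M : Subgroup G} (hM : IsMax φ M) {r : ℕ} [Fact r.Prime]
    (hr : pCoreOf r M ≠ ⊥) : h.z0 M r ≠ ⊥ := by
  set P := h.syl r ⊓ M with hP
  haveI := ((h.syl_pgroup r).to_le (inf_le_left : P ≤ h.syl r)).isNilpotent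
  have hle := h.core_le_syl_inf hM.inv r
  haveI : ((pCoreOf r M).subgroupOf P).Normal := (normal_subgroupOf_iff_le_normalizer hle).2
    (inf_le_right.trans (CfsgLib.LocalStructure.le_normalizer_pCoreOf M))
  have hne : (pCoreOf r M).subgroupOf P ≠ ⊥ := fun e => hr (by
    rw [← map_subgroupOf_eq_of_le hle, e, Subgroup.map_bot])
  have hz := CfsgLib.Solvable.inf_center_ne_bot hne
  rw [ne_eq, ← le_bot_iff, SetLike.not_le_iff_exists] at hz
  obtain ⟨z, ⟨hz1, hz2⟩, hz3⟩ := hz
  intro e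
  apply hz3
  have h1 : (z : G) ∈ h.z0 M r := ⟨hz1, fun y hy =>
    congrArg Subtype.val (mem_center_iff.1 hz2 ⟨y, hy⟩)⟩
  rw [e, mem_bot] at h1
  rw [mem_bot]
  exact Subtype.ext h1

theorem centralizer_z0 {M : Subgroup G} (hM : IsMax φ M) {r : ℕ} [Fact r.Prime]
    (hr : pCoreOf r M ≠ ⊥) : centralizer (h.z0 M r : Set G) = M :=
  h.centralizer_eq hM (h.z0_inv hM.inv r) (h.z0_ne_bot hM hr) (h.le_centralizer_z0 hM r)

end Hyp

end CfsgLib.FpfRankTwo73
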