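import Mathlib
import Cfsg.Agent.FpfRankTwo73.Central
import Cfsg.Agent.S0117
import Cfsg.Agent.SolvCrit.ZJBasic
import Cfsg.Agent.Transfer.NormalPComplement

/-!
# There is no minimal counterexample
-/

set_option autoImplicit false

namespace CfsgLib.FpfRankTwo73

open Subgroup CfsgLib.SolvCrit CfsgLib.Ward
open Cfsg (pCoreOf)
open scoped commutatorElement

universe u v

variable {G : Type u} {A : Type v} [Group G] [Finite G] [Group A] [Finite A]
  {φ : A →* MulAut G} {q : ℕ} [hq : Fact q.Prime]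

theorem le_normalizer_sup' {T X Y : Subgroup G} (hX : T ≤ normalizer (X : Set G))
    (hY : T ≤ normalizer (Y : Set G)) : T ≤ normalizer ((X ⊔ Y : Subgroup G) : Set G) :=
  le_normalizer_of_conj_mem fun t ht x hx => by
    have h1 : X ⊔ Y ≤ (X ⊔ Y).comap (MulAut.conj t).toMonoidHom :=
      sup_le (fun y hy => mem_sup_left ((mem_normalizer_iff.1 (hX ht) y).1 hy))
        (fun y hy => mem_sup_right ((mem_normalizer_iff.1 (hY ht) y).1 hy))
    exact h1 hx

theorem le_centralizer_bot (S : Subgroup G) :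
    S ≤ centralizer ((⊥ : Subgroup G) : Set G) := fun x _ y hy => by
  rw [SetLike.mem_coe, mem_bot] at hy
  rw [hy, one_mul, mul_one]

/-- `[R,T]` is normalised by elements that normalise `T` modulo `R C(R)`. -/
theorem commutator_normalized {M R T C : Subgroup G} {r v : ℕ} [Fact r.Prime] [Fact v.Prime]
    (hvr : v ≠ r) (hR : IsPGroup r R) (hRM : R ≤ M) (hMR : M ≤ normalizer (R : Set G))
    (hT : IsPGroup v T) (hTM : T ≤ M) (hCM : C ≤ M) (hC : C ≤ centralizer (R : Set G))
    (hmod : ∀ t ∈ T, ∀ m ∈ M, ⁅m, t⁆ ∈ R ⊔ C) : M ≤ normalizer (⁅R, T⁆ : Subgroup G) := by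
  set W := ⁅R, T⁆ with hW
  have hTR : T ≤ normalizer (R : Set G) := hTM.trans hMR
  have hWR : W ≤ R := CfsgLib.Coprime.commutator_le_of_le_normalizer hTR
  set L := M ⊓ normalizer (W : Set G) with hL
  have hRL : R ≤ L :=
    le_inf hRM (le_sup_left.trans (CfsgLib.Coprime.sup_le_normalizer_commutator R T))
  have hTL : T ≤ L :=
    le_inf hTM (le_sup_right.trans (CfsgLib.Coprime.sup_le_normalizer_commutator R T))
  have hCL : C ≤ L :=
    le_inf hCM ((hC.trans (centralizer_le hWR)).trans (Subgroup.centralizer_le_normalizer _))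
  haveI : (W.subgroupOf L).Normal :=
    (normal_subgroupOf_iff_le_normalizer (hWR.trans hRL)).2 inf_le_right
  haveI : (R.subgroupOf L).Normal :=
    (normal_subgroupOf_iff_le_normalizer hRL).2 (inf_le_left.trans hMR)
  set π := QuotientGroup.mk' (W.subgroupOf L) with hπ
  haveI : ((R.subgroupOf L).map π).Normal :=
    Subgroup.Normal.map inferInstance π (QuotientGroup.mk'_surjective _)
  set Cst := (centralizer (((R.subgroupOf L).map π : Subgroup _) : Set (L ⧸ W.subgroupOf L))).comap π
    with hCst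
  haveI : Cst.Normal := inferInstance
  have hmem : ∀ g : L, g ∈ Cst ↔ ∀ y ∈ R, ⁅y, (g : G)⁆ ∈ W := by
    intro g
    rw [hCst, mem_comap, mem_centralizer_iff]
    constructor
    · intro hg y hy
      have h1 := hg (π ⟨y, hRL hy⟩) ⟨⟨y, hRL hy⟩, hy, rfl⟩
      rw [← commutatorElement_eq_one_iff_mul_comm, ← map_commutatorElement] at h1
      exact ((QuotientGroup.eq_one_iff (N := W.subgroupOf L) _).1 h1 :)
    · rintro hg _ ⟨y, hy, rfl⟩
      rw [← commutatorElement_eq_one_iff_mul_comm, ← map_commutatorElement]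
      exact (QuotientGroup.eq_one_iff (N := W.subgroupOf L) _).2 (hg y hy)
  have htC : ∀ t : L, (t : G) ∈ T → t ∈ Cst := fun t ht =>
    (hmem t).2 fun y hy => commutator_mem_commutator hy ht
  have hcC : ∀ c : L, (c : G) ∈ C → c ∈ Cst := fun c hc => (hmem c).2 fun y hy => by
    rw [commutatorElement_eq_one_iff_mul_comm.2 (hC hc y hy)]
    exact one_mem _
  refine le_normalizer_of_conj_mem fun m hm x hx => ?_
  have h1 : W ≤ W.comap (MulAut.conj m).toMonoidHom := by
    rw [hW, commutator_le]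
    intro z hz t ht
    show m * ⁅z, t⁆ * m⁻¹ ∈ W
    rw [show m * ⁅z, t⁆ * m⁻¹ = ⁅m * z * m⁻¹, m * t * m⁻¹⁆ by
      simp only [commutatorElement_def]; group]
    obtain ⟨y, hy, c, hc, hyc⟩ := CfsgLib.Coprime.exists_mul_of_mem_sup
      ((hCM.trans hMR) : C ≤ normalizer (R : Set G)) (hmod t ht m hm)
    have ht' : m * t * m⁻¹ = y * c * t := by
      rw [hyc, commutatorElement_def, inv_mul_cancel_right]
    have ht'L : m * t * m⁻¹ ∈ L := ht' ▸ mul_mem (mul_mem (hRL hy) (hCL hc)) (hTL ht)
    set g : L := ⟨m * t * m⁻¹, ht'L⟩ with hg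
    have hgC : g ∈ Cst := by
      rw [← QuotientGroup.eq_one_iff]
      have e1 : (g : L ⧸ Cst) = ((⟨y, hRL hy⟩ : L) : L ⧸ Cst) := by
        rw [show g = (⟨y, hRL hy⟩ : L) * ⟨c, hCL hc⟩ * ⟨t, hTL ht⟩ from Subtype.ext ht',
          QuotientGroup.mk_mul, QuotientGroup.mk_mul,
          (QuotientGroup.eq_one_iff (⟨c, hCL hc⟩ : L)).2 (hcC _ hc),
          (QuotientGroup.eq_one_iff (⟨t, hTL ht⟩ : L)).2 (htC _ ht), mul_one, mul_one]
      obtain ⟨i, hi⟩ := hT ⟨t, ht⟩
      obtain ⟨j, hj⟩ := hR ⟨y, hy⟩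
      have hi' : (g : L ⧸ Cst) ^ v ^ i = 1 := by
        have h2 : g ^ v ^ i = 1 := Subtype.ext (by
          show (m * t * m⁻¹) ^ v ^ i = 1
          rw [conj_pow, show t ^ v ^ i = 1 from congrArg Subtype.val hi, mul_one, mul_inv_cancel])
        rw [← QuotientGroup.mk_pow, h2, QuotientGroup.mk_one]
      have hj' : (g : L ⧸ Cst) ^ r ^ j = 1 := by
        have h2 : (⟨y, hRL hy⟩ : L) ^ r ^ j = 1 :=
          Subtype.ext (congrArg Subtype.val hj :)
        rw [e1, ← QuotientGroup.mk_pow, h2, QuotientGroup.mk_one]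
      have h3 := Nat.dvd_gcd (orderOf_dvd_of_pow_eq_one hi') (orderOf_dvd_of_pow_eq_one hj')
      rw [((Nat.coprime_primes Fact.out Fact.out).2 hvr).pow i j, Nat.dvd_one] at h3
      exact orderOf_eq_one_iff.1 h3
    exact (hmem g).1 hgC _ ((mem_normalizer_iff.1 (hMR hm) z).1 hz)
  exact h1 hx

namespace Hyp

variable (h : Hyp φ q)
include h

/-- Every maximal invariant subgroup is nilpotent. -/
theorem maximal_nilpotent {M : Subgroup G} (hM : IsMax φ M) : Group.IsNilpotent M := by
  classical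
  by_contra hnil
  -- some element of order prime to `r` acts on `O_r(M)`
  obtain ⟨r, hr, v, hv, hvr, hS⟩ : ∃ (r : ℕ) (_ : Fact r.Prime) (v : ℕ) (_ : Fact v.Prime),
      v ≠ r ∧ ¬ h.syl v ⊓ M ≤ centralizer (pCoreOf r M : Set G) := by
    by_contra! hc
    refine hnil ((Group.isNilpotent_of_finite_tfae.out 0 3 rfl rfl).mpr fun w hw P => ?_)
    have h1 : h.syl w ⊓ M ≤ pCoreOf w M :=
      h.le_core_of_centralizes hM.inv hM.ne_top inf_le_right
        ((h.syl_pgroup w).to_le inf_le_left) fun u hu huw => hc u ⟨hu⟩ w hw huw.symm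
    have h2 := card_le_of_le h1
    rw [h.card_syl_inf w hM.inv, ← P.card_eq_multiplicity, Cfsg.pCoreOf,
      card_map_of_injective M.subtype_injective] at h2
    rw [← eq_of_le_of_card_ge (CfsgLib.PLocal.pCore_le_sylow P) h2]
    exact CfsgLib.LocalStructure.pCore_normal
  haveI := hr
  haveI := hv
  set R0 := pCoreOf r M with hR0
  have hMR : M ≤ normalizer (R0 : Set G) := CfsgLib.LocalStructure.le_normalizer_pCoreOf M
  have hR0i : IsInvariant φ R0 := core_inv hM.inv r
  have hR0M : R0 ≤ M := CfsgLib.LocalStructure.pCoreOf_le M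
  have hR0r : IsPGroup r R0 := CfsgLib.LocalStructure.pCoreOf_isPGroup M
  have hr0 : R0 ≠ ⊥ := fun e => hS (e ▸ le_centralizer_bot _)
  set C0 := M ⊓ centralizer (R0 : Set G) with hC0
  have hMC0 : M ≤ normalizer (C0 : Set G) :=
    le_normalizer_inf' le_normalizer (le_normalizer_centralizer' hMR)
  set K := R0 ⊔ C0 with hK
  have hothers : ∀ w : ℕ, w.Prime → w ≠ r → pCoreOf w M ≤ C0 := by
    intro w hw hwr
    haveI := Fact.mk hw
    exact le_inf (CfsgLib.LocalStructure.pCoreOf_le M)
      (le_centralizer_of_primes hwr (CfsgLib.LocalStructure.pCoreOf_isPGroup M) hR0r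
        ((CfsgLib.LocalStructure.pCoreOf_le M).trans hMR)
        (hR0M.trans (CfsgLib.LocalStructure.le_normalizer_pCoreOf M)))
  have hcores : ∀ w : ℕ, w.Prime → pCoreOf w M ≤ K := by
    intro w hw
    by_cases hwr : w = r
    · subst hwr; exact le_sup_left
    · exact (hothers w hw hwr).trans le_sup_right
  have hKC : ∀ T : Subgroup G, IsPGroup v T → T ≤ K → T ≤ C0 := by
    intro T hT hTK x hx
    obtain ⟨y, hy, c, hc, rfl⟩ := CfsgLib.Coprime.exists_mul_of_mem_sup
      ((inf_le_left.trans hMR) : C0 ≤ normalizer (R0 : Set G)) (hTK hx)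
    haveI : (C0.subgroupOf M).Normal := (normal_subgroupOf_iff_le_normalizer inf_le_left).2 hMC0
    obtain ⟨i, hi⟩ := hT ⟨y * c, hx⟩
    obtain ⟨j, hj⟩ := hR0r ⟨y, hy⟩
    have hcop : (orderOf (y * c)).Coprime r := by
      refine Nat.Coprime.coprime_dvd_left (orderOf_dvd_of_pow_eq_one
        (congrArg Subtype.val hi : (y * c) ^ v ^ i = 1)) ?_
      exact ((Nat.coprime_primes Fact.out Fact.out).2 hvr).pow_left i
    refine CfsgLib.LocalStructure.mem_of_coprime_of_pow_mem hcop (k := j) ?_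
    have h1 : (((⟨y, hR0M hy⟩ : M) * ⟨c, hc.1⟩) ^ r ^ j : M) ∈ C0.subgroupOf M := by
      rw [← QuotientGroup.eq_one_iff, QuotientGroup.mk_pow, QuotientGroup.mk_mul,
        (QuotientGroup.eq_one_iff (⟨c, hc.1⟩ : M)).2 (hc : c ∈ C0), mul_one,
        ← QuotientGroup.mk_pow,
        show (⟨y, hR0M hy⟩ : M) ^ r ^ j = 1 from Subtype.ext (congrArg Subtype.val hj :),
        QuotientGroup.mk_one]
    exact h1
  obtain ⟨a, ha, T, hTS, hTa, hTi, hTK, hTc⟩ := h.exists_central (v := v) hM
    (sup_le hR0M inf_le_left) (le_normalizer_sup' hMR hMC0)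
    (hR0i.sup (hM.inv.inf hR0i.centralizer)) hcores
    (fun e => hS ((hKC _ ((h.syl_pgroup v).to_le inf_le_left) e).trans inf_le_right))
  have hTM : T ≤ M := hTS.trans inf_le_right
  have hTv : IsPGroup v T := (h.syl_pgroup v).to_le (hTS.trans inf_le_left)
  have hTr : ¬ r ∣ Nat.card T := not_dvd_of_isPGroup hvr.symm hTv
  set W := ⁅R0, T⁆ with hW
  have hWR : W ≤ R0 := CfsgLib.Coprime.commutator_le_of_le_normalizer (hTM.trans hMR)
  have hWM : W ≤ M := hWR.trans hR0M
  have hWi : IsInvariant φ W := IsInvariant.commutator hR0i hTi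
  have hWr : IsPGroup r W := hR0r.to_le hWR
  have hWn : M ≤ normalizer (W : Set G) :=
    commutator_normalized hvr hR0r hR0M hMR hTv hTM inf_le_left inf_le_right hTc
  have hgen : W ≤ ⁅W, T⁆ := (CfsgLib.Coprime.commutator_commutator_eq (hTM.trans hMR)
    (coprime_of_not_dvd hR0r hTr)).ge
  have hW0 : W ≠ ⊥ := fun e => hTK ((le_inf hTM (le_centralizer_comm
    (commutator_eq_bot_iff_le_centralizer.1 e))).trans le_sup_right)
  have hTW : T ≤ normalizer (W : Set G) := hTM.trans hWn
  have hCW : centralizer (W : Set G) ≤ M :=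
    (Subgroup.centralizer_le_normalizer _).trans (h.normalizer_eq hM hWi hWM hWn hW0).le
  -- a line `b` outside `M`
  obtain ⟨b, hb, hbM⟩ : ∃ b : A, b ∉ zpowers a ∧ ¬ fixedBy φ b ≤ M := by
    by_contra! hc
    exact hTK ((le_inf hTM hTa).trans ((h.inter_fix_eq_bot hM ha hc).le.trans bot_le))
  have hb1 := ne_one_of_notMem (h := h) hb
  set Wb := W ⊓ fixedBy φ b with hWb
  have hWb0 : Wb ≠ ⊥ := h.fix_inf_ne_bot ha hb hWr hWi hTW hTi hTa hTr hgen hW0
  obtain ⟨H, hH, hCH⟩ := h.exists_max (hWi.inf (h.inv_fix b)).centralizer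
    (h.centralizer_ne_top hWb0)
  have hbH : fixedBy φ b ≤ H := (h.le_centralizer_of_fix hb1 le_rfl inf_le_right).trans hCH
  have hHM : H ≠ M := fun e => hbM (e ▸ hbH)
  have hzH : ∀ w : ℕ, [Fact w.Prime] → h.z0 M w ≤ H := fun w _ =>
    (le_centralizer_comm ((inf_le_left.trans hWM : Wb ≤ M).trans (h.le_centralizer_z0 hM w))).trans
      hCH
  have hzM : ∀ w : ℕ, [Fact w.Prime] → h.z0 H w ≤ M := fun w _ => by
    rw [← h.centralizer_z0 hM hr0]
    exact le_centralizer_comm ((hzH r).trans (h.le_centralizer_z0 hH w))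
  have hsH : ∀ w : ℕ, w.Prime → w ≠ r → pCoreOf w M ≤ H := fun w hw hwr =>
    (((hothers w hw hwr).trans inf_le_right).trans
      (centralizer_le (inf_le_left.trans hWR : Wb ≤ R0))).trans hCH
  -- another prime in the Fitting subgroup of `H` forces `W ≤ H`
  obtain ⟨u, hu, hur, hu0⟩ : ∃ (u : ℕ), u.Prime ∧ u ≠ r ∧ pCoreOf u H ≠ ⊥ := by
    by_contra! hc
    obtain ⟨w, hw, hw0⟩ := h.exists_core_ne_bot hH
    have hwr : w = r := by_contra fun e => hw0 (hc w hw e)
    subst hwr
    by_cases htwo : ∀ s : ℕ, s.Prime → s ≠ w → pCoreOf s M = ⊥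
    · apply hHM
      rw [← h.core_normalizer_eq hH hw0, h.core_eq_syl hH hw0 hc, ← h.core_eq_syl hM hr0 htwo]
      exact h.core_normalizer_eq hM hr0
    · push Not at htwo
      obtain ⟨s, hs, hsr, hs0⟩ := htwo
      haveI := Fact.mk hs
      have hRY : h.z0 M w ≤ centralizer (pCoreOf s M : Set G) := le_centralizer_comm
        ((CfsgLib.LocalStructure.pCoreOf_le M).trans (h.le_centralizer_z0 hM w))
      have hcc := h.cores_commute (M := M) (H := H) hsr.symm (h.z0_isPGroup M w) hRY (hzH w)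
        (hsH s hs hsr) (h.centralizer_z0 hM hr0).le
      apply hs0
      rw [← le_bot_iff, ← hc s hs hsr]
      refine h.le_core_of_centralizes hH.inv hH.ne_top (hsH s hs hsr)
        (CfsgLib.LocalStructure.pCoreOf_isPGroup M) fun x hx hxs => ?_
      by_cases hxw : x = w
      · subst hxw; exact hcc
      · rw [hc x hx hxw]; exact le_centralizer_bot _
  haveI := Fact.mk hu
  set X := h.z0 H u with hX
  have hXu : ∀ c : A, ¬ r ∣ Nat.card ↥(X ⊓ fixedBy φ c) := fun c =>
    not_dvd_of_isPGroup hur.symm ((h.z0_isPGroup H u).to_le inf_le_left)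
  have hXi : IsInvariant φ X := h.z0_inv hH.inv u
  have hWX : X ≤ centralizer (W : Set G) := by
    refine h.le_of_fixed hXi fun c hc x hxX hxc => ?_
    by_cases hca : c ∈ zpowers a
    · rw [h.fix_eq hca hc] at hxc
      have hWU : W ≤ centralizer ((X ⊓ fixedBy φ a : Subgroup G) : Set G) :=
        h.closure_le ha hb hWr hWi hTW hTi hTa hTr hgen
          ((h.le_centralizer_of_fix ha hTa inf_le_right).trans le_normalizer)
          (hXi.inf (h.inv_fix a)).centralizer
          (((inf_le_right.trans hbH).trans (h.le_centralizer_z0 hH u)).trans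
            (centralizer_le inf_le_left))
      exact le_centralizer_comm hWU ⟨hxX, hxc⟩
    · exact h.centralizes_other ha hca hWr hWi hTW hTa hTr hgen
        ((inf_le_left.trans (hzM u)).trans hWn) (hXi.inf (h.inv_fix c)) inf_le_right (hXu c)
        ⟨hxX, hxc⟩
  have hWH : W ≤ H := (le_centralizer_comm hWX).trans (h.centralizer_z0 hH hu0).le
  -- a line `k` with fixed points in `M`
  obtain ⟨k, hk1, hk⟩ : ∃ k : A, k ≠ 1 ∧ h.z0 M r ⊓ fixedBy φ k ≠ ⊥ := by
    by_contra! hc
    exact h.z0_ne_bot hM hr0 (le_bot_iff.1 (h.le_of_fixed (h.z0_inv hM.inv r)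
      fun c hc' x hx hxc => (hc c hc').le ⟨hx, hxc⟩))
  have hkM : fixedBy φ k ≤ M := (h.le_centralizer_of_fix hk1 le_rfl inf_le_right).trans
    (h.centralizer_eq hM ((h.z0_inv hM.inv r).inf (h.inv_fix k)) hk
      ((h.le_centralizer_z0 hM r).trans (centralizer_le inf_le_left))).le
  have hkb : k ∉ zpowers b := fun e => hbM (h.fix_eq e hk1 ▸ hkM)
  have hDW : ∀ w : ℕ, w.Prime → w ≠ r → pCoreOf w H ⊓ M ≤ centralizer (W : Set G) := by
    intro w hw hwr
    haveI := Fact.mk hw
    exact le_centralizer_of_primes hwr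
      ((CfsgLib.LocalStructure.pCoreOf_isPGroup H).to_le inf_le_left) hWr
      (inf_le_right.trans hWn)
      (le_normalizer_inf' (hWH.trans (CfsgLib.LocalStructure.le_normalizer_pCoreOf H))
        (hWM.trans le_normalizer))
  have hHle : ∀ w : ℕ, w.Prime → pCoreOf w H ≤ M := by
    intro w hw
    haveI := Fact.mk hw
    by_cases hwr : w = r
    · subst hwr
      by_cases htwo : ∀ s : ℕ, s.Prime → s ≠ w → pCoreOf s M = ⊥
      · refine le_trans ?_ (h.core_eq_syl hM hr0 htwo ▸ hR0M : h.syl w ≤ M)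
        exact h.le_syl (core_inv hH.inv w) (CfsgLib.LocalStructure.pCoreOf_isPGroup H)
      · push Not at htwo
        obtain ⟨s, hs, hsr, hs0⟩ := htwo
        haveI := Fact.mk hs
        have hRY : h.z0 M w ≤ centralizer (pCoreOf s M : Set G) := le_centralizer_comm
          ((CfsgLib.LocalStructure.pCoreOf_le M).trans (h.le_centralizer_z0 hM w))
        have hcc := h.cores_commute (M := M) (H := H) hsr.symm (h.z0_isPGroup M w) hRY (hzH w)
          (hsH s hs hsr) (h.centralizer_z0 hM hr0).le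
        exact (le_centralizer_comm hcc).trans (h.centralizer_core_le hM hs0)
    set D := pCoreOf w H with hD
    have hDp : IsPGroup w D := CfsgLib.LocalStructure.pCoreOf_isPGroup H
    have hDi : IsInvariant φ D := core_inv hH.inv w
    have hWD : W ≤ normalizer (D : Set G) :=
      hWH.trans (CfsgLib.LocalStructure.le_normalizer_pCoreOf H)
    have hWw : ∀ c : A, ¬ w ∣ Nat.card ↥(W ⊓ fixedBy φ c) := fun c =>
      not_dvd_of_isPGroup hwr (hWr.to_le inf_le_left)
    have hWbD : Wb ≤ centralizer (D : Set G) :=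
      h.centralizes hb1 hkb hDp hDi (inf_le_left.trans hWD) (hWi.inf (h.inv_fix b)) inf_le_right
        (hWw b) ((inf_le_inf_left D hkM).trans ((hDW w hw hwr).trans (centralizer_le inf_le_left)))
    have hWE : W ≤ centralizer ((D ⊓ fixedBy φ a : Subgroup G) : Set G) :=
      h.closure_le ha hb hWr hWi hTW hTi hTa hTr hgen
        ((h.le_centralizer_of_fix ha hTa inf_le_right).trans le_normalizer)
        (hDi.inf (h.inv_fix a)).centralizer (hWbD.trans (centralizer_le inf_le_left))
    have hWD' : W ≤ centralizer (D : Set G) :=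
      h.le_of_fix_other ha hWr hWi hTW hTa hTr hgen fun c hc =>
        h.centralizes (ne_one_of_notMem (h := h) hc) (notMem_symm h.exp ha hc) hDp hDi
          (inf_le_left.trans hWD) (hWi.inf (h.inv_fix c)) inf_le_right (hWw c)
          ((le_centralizer_comm hWE).trans (centralizer_le inf_le_left))
    exact (le_centralizer_comm hWD').trans hCW
  have hrH : pCoreOf r H ≠ ⊥ := by
    intro e
    apply hW0
    rw [← le_bot_iff, ← e]
    refine h.le_core_of_centralizes hH.inv hH.ne_top hWH hWr fun w hw hwr => ?_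
    exact le_centralizer_comm ((le_inf le_rfl (hHle w hw)).trans (hDW w hw hwr))
  refine hHM (h.bender hH hM hHle (fun w hw hw0 => ?_) (Fact.out : r.Prime) hu hur.symm hrH hu0).symm
  haveI := Fact.mk hw
  by_contra hne
  refine h.z0_ne_bot hM hne (le_bot_iff.1 (hw0 ▸ h.le_core_of_centralizes hH.inv hH.ne_top
    (hzH w) (h.z0_isPGroup M w) fun x hx _ => ?_))
  exact le_centralizer_comm ((hHle x hx).trans (h.le_centralizer_z0 hM w))

/-- There is no minimal counterexample. -/
theorem false_of_hyp : False := by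
  classical
  obtain ⟨r, hr, hr2, hrG⟩ : ∃ r : ℕ, r.Prime ∧ r ≠ 2 ∧ r ∣ Nat.card G := by
    by_contra! hc
    haveI : Fact (Nat.Prime 2) := ⟨Nat.prime_two⟩
    have h2 : IsPGroup 2 G := IsPGroup.of_card (n := (Nat.card G).primeFactorsList.length)
      (Nat.eq_prime_pow_of_unique_prime_dvd Nat.card_pos.ne' fun hd hdG => by
        by_contra hne
        exact hc _ hd hne hdG)
    haveI := h2.isNilpotent
    exact h.not_solv inferInstance
  haveI := Fact.mk hr
  let P : Sylow r G := Sylow.ofCard (h.syl r) (by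
    have := h.card_syl_inf r (isInvariant_top φ)
    rwa [inf_top_eq, card_top] at this)
  have hPne : h.syl r ≠ ⊥ := P.ne_bot_of_dvd_card hrG
  set Z := Cfsg.centerThompsonOf r (h.syl r) with hZ
  have hZne : Z ≠ ⊥ := centerThompson_ne_bot (h.syl_pgroup r) hPne
  have hZi : IsInvariant φ Z := by
    intro a x hx
    have h1 : Z.map (φ a : MulAut G).toMonoidHom = Z := by
      rw [hZ, map_centerThompson _ (φ a : MulAut G).injective, (h.syl_inv r).map_eq a]
    exact h1 ▸ mem_map_of_mem _ hx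
  have hZtop : Z ≠ ⊤ := fun e => h.syl_ne_top r (top_le_iff.1 (e ▸ centerThompson_le r _))
  obtain ⟨M, hM, hNM⟩ := h.exists_max hZi.normalizer (h.normalizer_ne_top hZi hZne hZtop)
  haveI := h.maximal_nilpotent hM
  haveI : Group.IsNilpotent ↥(normalizer
      (Cfsg.centerThompsonOf r (P : Subgroup G) : Set G)) :=
    Subgroup.isNilpotent_of_ker_le_center (Subgroup.inclusion hNM)
      (((MonoidHom.ker_eq_bot_iff _).2 (inclusion_injective hNM)).le.trans bot_le)
  have hG : Cfsg.HasNormalPComplement r G :=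
    (Cfsg.Agent.S0117.result hr2 P).2 CfsgLib.Transfer.hasNormalPComplement_of_isNilpotent
  rw [CfsgLib.Transfer.hasNormalPComplement_iff] at hG
  have hi : IsInvariant φ (Cfsg.pResidual r G) := by
    intro a x hx
    have h1 : Cfsg.pResidual r G ≤ (Cfsg.pResidual r G).comap (φ a : MulAut G).toMonoidHom := by
      refine (Subgroup.closure_le _).2 fun g hg => subset_closure ?_
      show Nat.Coprime (orderOf (φ a g)) r
      rw [MulEquiv.orderOf_eq]
      exact hg
    exact h1 hx
  rcases h.simple _ CfsgLib.LocalStructure.pResidual_normal hi with h0 | h0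
  · have hp : IsPGroup r G := by
      have := CfsgLib.LocalStructure.isPGroup_quotient_pResidual (G := G) (p := r)
      intro g
      obtain ⟨k, hk⟩ := this (g : G ⧸ Cfsg.pResidual r G)
      rw [← QuotientGroup.mk_pow, QuotientGroup.eq_one_iff, h0, mem_bot] at hk
      exact ⟨k, hk⟩
    haveI := hp.isNilpotent
    exact h.not_solv inferInstance
  · rw [h0, card_top] at hG
    exact hG hrG

end Hyp

end CfsgLib.FpfRankTwo73
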