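import Mathlib
import Cfsg.Agent.FpfRankTwo73.Final

/-!
# `q²`-action with abelian centralisers implies solvability
-/

set_option autoImplicit false

namespace CfsgLib.FpfRankTwo73

open Subgroup CfsgLib.SolvCrit CfsgLib.Ward

universe u v

variable {A : Type v} [Group A] [Finite A] {q : ℕ} [hq : Fact q.Prime]

theorem isSolvable_aux (hA : ∀ a b : A, a * b = b * a) (hexp : ∀ a : A, a ^ q = 1)
    (hcard : Nat.card A = q ^ 2) :
    ∀ (n : ℕ) (G : Type u) [Group G] [Finite G], Nat.card G = n → ∀ φ : A →* MulAut G,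
      ¬ q ∣ Nat.card G →
      (∀ a : A, a ≠ 1 → ∀ x y : G, φ a x = x → φ a y = y → x * y = y * x) →
      Group.IsSolvable G := by
  intro n
  induction n using Nat.strong_induction_on with
  | _ n ih =>
  intro G _ _ hn φ hqG hab
  by_contra hns
  have hnc := not_isCyclic hexp hcard
  have hcop : (Nat.card A).Coprime (Nat.card G) := by
    rw [hcard]
    exact Nat.Coprime.pow_left _ (hq.out.coprime_iff_not_dvd.2 hqG)
  have hsolv : ∀ H : Subgroup G, IsInvariant φ H → H ≠ ⊤ → Group.IsSolvable H := by
    intro H hH hne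
    refine ih (Nat.card H) ?_ H rfl (restr φ H hH)
      (fun hd => hqG (hd.trans (card_subgroup_dvd_card H))) fun a ha x y hx hy =>
        Subtype.ext (hab a ha x y (congrArg Subtype.val hx) (congrArg Subtype.val hy))
    rw [← hn]
    exact lt_of_le_of_ne (card_le_card_group H) fun e => hne (eq_top_of_card_eq H e)
  have hsimple : ∀ N : Subgroup G, N.Normal → IsInvariant φ N → N = ⊥ ∨ N = ⊤ := by
    intro N hNn hNi
    by_contra! hN
    haveI := hNn
    obtain ⟨φ', hφ'⟩ := exists_quotient_action φ N hNi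
    haveI := hsolv N hNi hN.2
    have hlt : Nat.card (G ⧸ N) < n := by
      rw [← hn, card_eq_card_quotient_mul_card_subgroup N]
      exact lt_mul_of_one_lt_right Nat.card_pos ((one_lt_card_iff_ne_bot N).2 hN.1)
    refine hns (isSolvable_of_normal_of_quotient N inferInstance ?_)
    refine ih _ hlt (G ⧸ N) rfl φ' (fun hd => hqG (hd.trans (card_quotient_dvd_card N))) ?_
    have hlift : ∀ a : A, ∀ x : G ⧸ N, φ' a x = x → ∃ c : G, φ a c = c ∧ (c : G ⧸ N) = x := by
      intro a x hx
      induction x using QuotientGroup.induction_on with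
      | H g =>
        obtain ⟨c, hc, hgc⟩ := CfsgLib.Coprime.exists_fixed_mem_coset_hom
          (φ.comp (zpowers a).subtype) (N := N) (fun b y hy => hNi b y hy)
          ((hcop.coprime_dvd_left (card_subgroup_dvd_card _)).coprime_dvd_right
            (card_subgroup_dvd_card N))
          (Or.inl (Group.isSolvable_of_comm fun b c => Subtype.ext (hA b c))) (k := g)
          (fun b => by
            rw [← QuotientGroup.eq]
            obtain ⟨i, hi⟩ := mem_zpowers_iff.1 b.2
            show (g : G ⧸ N) = ((φ b g : G) : G ⧸ N)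
            rw [← hφ', ← hi, map_zpow]
            have hst : φ' a ∈ MulAction.stabilizer (MulAut (G ⧸ N)) (g : G ⧸ N) := hx
            exact (zpow_mem hst i).symm)
        exact ⟨c, hc ⟨a, mem_zpowers a⟩, (QuotientGroup.eq.2 hgc).symm⟩
    intro a ha x y hx hy
    obtain ⟨c, hc, rfl⟩ := hlift a x hx
    obtain ⟨d, hd, rfl⟩ := hlift a y hy
    rw [← QuotientGroup.mk_mul, ← QuotientGroup.mk_mul, hab a ha c d hc hd]
  have hfpf : ∀ x : G, (∀ a, φ a x = x) → x = 1 := by
    intro x hx
    have h1 : (⊤ : Subgroup G) ≤ centralizer {x} :=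
      Ward.le_of_fixed φ hA hnc hcop (fun _ _ _ => mem_top _) fun a ha y _ hy => by
        rw [mem_centralizer_singleton_iff]
        exact hab a ha y x hy (hx a)
    rcases hsimple (center G) inferInstance (isInvariant_of_characteristic (φ := φ)) with hz | hz
    · rw [← mem_bot, ← hz, mem_center_iff]
      exact fun g => mem_centralizer_singleton_iff.1 (h1 (mem_top g))
    · exact absurd (Group.isSolvable_of_comm fun a b =>
        (mem_center_iff.1 (hz.ge (mem_top b) : b ∈ center G) a)) hns
  exact Hyp.false_of_hyp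
    (⟨hA, hexp, hcard, hfpf, hab, hsolv, hsimple, hns⟩ : Hyp φ q)

/-- A non-cyclic group of order `q²` acting coprimely with abelian centralisers: solvable. -/
theorem isSolvable_of_abelian_centralizers {G : Type u} [Group G] [Finite G]
    [MulDistribMulAction A G] (hcard : Nat.card A = q ^ 2) (hnc : ¬ IsCyclic A)
    (hcop : ¬ q ∣ Nat.card G)
    (h : ∀ a : A, a ≠ 1 → IsMulCommutative ↥(FixedPoints.subgroup (Subgroup.zpowers a) G)) :
    Group.IsSolvable G := by
  have hA : ∀ a b : A, a * b = b * a := IsPGroup.commutative_of_card_eq_prime_sq hcard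
  have hexp : ∀ a : A, a ^ q = 1 := by
    intro a
    have h1 : orderOf a ∣ q ^ 2 := hcard ▸ orderOf_dvd_natCard a
    obtain ⟨i, hi, hia⟩ := (Nat.dvd_prime_pow hq.out).1 h1
    refine orderOf_dvd_iff_pow_eq_one.1 ?_
    have h2 : i ≠ 2 := fun e => hnc (isCyclic_of_orderOf_eq_card a (by rw [hia, e, hcard]))
    rw [hia]
    exact (pow_dvd_pow q (show i ≤ 1 by omega)).trans (pow_one q).dvd
  refine isSolvable_aux hA hexp hcard _ G rfl (MulDistribMulAction.toMulAut A G) hcop
    fun a ha x y hx hy => ?_
  have hfix : ∀ z : G, a • z = z → z ∈ FixedPoints.subgroup (Subgroup.zpowers a) G := by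
    intro z hz b
    have hb : (b : A) ∈ MulAction.stabilizer A z :=
      (Subgroup.zpowers_le.2 (hz : a ∈ MulAction.stabilizer A z)) b.2
    exact hb
  exact congrArg Subtype.val ((h a ha).is_comm.comm ⟨x, hfix x hx⟩ ⟨y, hfix y hy⟩)

end CfsgLib.FpfRankTwo73
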